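import Groth.Agent.FiltRees.Quot
import Groth.Agent.EGA4Lib.SkFibers
import Groth.Agent.EGA4Lib.Fibers

/-!
# Depth and dimension of local rings of a localisation and of a quotient by a nonzerodivisor
-/

set_option autoImplicit false
set_option linter.style.haveILetI false
universe u

open IsLocalRing
open scoped Pointwise

noncomputable section

namespace Groth.Agent.FiltRees

/-- The depth of the local ring at `p`. -/
def dp {R : Type u} [CommRing R] (p : Ideal R) [p.IsPrime] : ℕ∞ :=
  LocCoh.depth (Localization.AtPrime p) (Localization.AtPrime p)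

/-- The dimension of the local ring at `p`. -/
def ds {R : Type u} [CommRing R] (p : Ideal R) [p.IsPrime] : WithBot ℕ∞ :=
  Module.supportDim (Localization.AtPrime p) (Localization.AtPrime p)

theorem localizedModule_eq {R : Type u} [CommRing R] (p : Ideal R) [p.IsPrime] :
    LocCoh.depth (Localization.AtPrime p) (LocalizedModule p.primeCompl R) = dp p ∧
      Module.supportDim (Localization.AtPrime p) (LocalizedModule p.primeCompl R) = ds p :=
  EGA4Lib.depth_supportDim_congr (Depth.localizedModuleSelfEquiv p.primeCompl)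

theorem hasSk_self_iff (k : ℕ) (R : Type u) [CommRing R] :
    LocCoh.HasSk k R R ↔ ∀ (p : Ideal R) [p.IsPrime],
      min (k : WithBot ℕ∞) (ds p) ≤ ((dp p : ℕ∞) : WithBot ℕ∞) :=
  forall₂_congr fun p _ => by rw [(localizedModule_eq p).1, (localizedModule_eq p).2]

theorem cm_iff {R : Type u} [CommRing R] [IsNoetherianRing R] (p : Ideal R) [p.IsPrime] :
    LocCoh.IsCohenMacaulayLocalRing (Localization.AtPrime p) ↔ ds p = ((dp p : ℕ∞) : WithBot ℕ∞) :=
  Depth.isCohenMacaulayLocalRing_iff

theorem dp_ds_comap {R : Type u} [CommRing R] (R' : Type u) [CommRing R'] [Algebra R R']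
    (M : Submonoid R) [IsLocalization M R'] (q : Ideal R') [q.IsPrime] :
    dp (q.comap (algebraMap R R')) = dp q ∧ ds (q.comap (algebraMap R R')) = ds q := by
  haveI : IsLocalization.AtPrime (Localization.AtPrime q) (q.comap (algebraMap R R')) :=
    IsLocalization.isLocalization_isLocalization_atPrime_isLocalization (M := M) (Localization.AtPrime q) q
  exact EGA4Lib.depth_supportDim_ringEquiv
    (IsLocalization.algEquiv (q.comap (algebraMap R R')).primeCompl
      (Localization.AtPrime (q.comap (algebraMap R R'))) (Localization.AtPrime q)).toRingEquiv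

theorem depth_dim_quotient {R : Type u} [CommRing R] [IsLocalRing R] [IsNoetherianRing R] {x : R}
    [IsLocalRing (R ⧸ Ideal.span {x})] (hx : x ∈ maximalIdeal R) (hreg : IsSMulRegular R x) :
    LocCoh.depth R R = LocCoh.depth (R ⧸ Ideal.span {x}) (R ⧸ Ideal.span {x}) + 1 ∧
      Module.supportDim R R = Module.supportDim (R ⧸ Ideal.span {x}) (R ⧸ Ideal.span {x}) + 1 := by
  obtain ⟨h1, h2⟩ := EGA4Lib.depth_supportDim_of_surjective (R := R) (S := R ⧸ Ideal.span {x})
    Ideal.Quotient.mk_surjective (R ⧸ Ideal.span {x})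
  obtain ⟨h3, h4⟩ := EGA4Lib.depth_supportDim_congr (L := R) (Submodule.quotEquivOfEq
    (x • (⊤ : Submodule R R)) (Ideal.span {x})
    (by rw [← Submodule.ideal_span_singleton_smul]; exact Ideal.mul_top _))
  rw [h1, h2, ← h3, ← h4]
  exact ⟨(Depth.idealDepth_quotSMulTop_add_one hx hreg).symm,
    (Module.supportDim_quotSMulTop_succ_eq_supportDim hreg hx).symm⟩

variable {R : Type u} [CommRing R] [IsNoetherianRing R] {x : R}

theorem dp_ds_quotient (hreg : IsSMulRegular R x) (q : Ideal (R ⧸ Ideal.span {x})) [q.IsPrime] :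
    dp (q.comap (Ideal.Quotient.mk (Ideal.span {x}))) = dp q + 1 ∧
      ds (q.comap (Ideal.Quotient.mk (Ideal.span {x}))) = ds q + 1 := by
  obtain ⟨h1, h2, ⟨e⟩⟩ := loc_quotient_facts hreg q
  haveI := Gor.Basic.isLocalRing_quotient _ h1
  obtain ⟨h3, h4⟩ := depth_dim_quotient h1 h2
  obtain ⟨h5, h6⟩ := EGA4Lib.depth_supportDim_ringEquiv e
  exact ⟨h3.trans (by rw [h5]; rfl), h4.trans (by rw [h6]; rfl)⟩

theorem min_add_one_le_iff (k : ℕ) (a : WithBot ℕ∞) (b : ℕ∞) :
    min ((k + 1 : ℕ) : WithBot ℕ∞) (a + 1) ≤ (((b + 1 : ℕ∞)) : WithBot ℕ∞) ↔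
      min (k : WithBot ℕ∞) a ≤ (b : WithBot ℕ∞) := by
  cases a with
  | bot => simp
  | coe a =>
    rw [show ((k : WithBot ℕ∞)) = (((k : ℕ∞)) : WithBot ℕ∞) from rfl,
      show ((k + 1 : ℕ) : WithBot ℕ∞) = (((k + 1 : ℕ) : ℕ∞) : WithBot ℕ∞) from rfl,
      show ((a : WithBot ℕ∞) + 1) = ((a + 1 : ℕ∞) : WithBot ℕ∞) from rfl,
      ← WithBot.coe_min, ← WithBot.coe_min, WithBot.coe_le_coe, WithBot.coe_le_coe,
      Nat.cast_succ, min_add_add_right]
    exact WithTop.add_le_add_iff_right ENat.one_ne_top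

end Groth.Agent.FiltRees
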