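import Groth.Prelude.Def_W4c2filtblowupsingRees
import Groth.Prelude.Def_CAlg
import Mathlib.RingTheory.GradedAlgebra.Homogeneous.Ideal
import Mathlib.RingTheory.LocalRing.ResidueField.Basic
import Mathlib.RingTheory.FiniteType
import Mathlib.RingTheory.Polynomial.Basic
import Mathlib.RingTheory.Ideal.Height

/-!
# The extended Rees algebra of a filtration as a graded ring

`egr`, the grading; Noetherianity; `vertex`, the maximal ideal containing every proper homogeneous ideal.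
-/

set_option autoImplicit false
set_option linter.style.haveILetI false
universe u

open Polynomial LaurentPolynomial DirectSum

noncomputable section

namespace Groth.Agent.FiltRees

variable {A : Type u} [CommRing A] (𝓕 : FiltBl.IdealFiltration A)

theorem coeff_C_mul_T (a : A) (n m : ℤ) :
    (LaurentPolynomial.C a * T n : A[T;T⁻¹]).coeff m = if m = n then a else 0 := by
  rw [← single_eq_C_mul_T, AddMonoidAlgebra.coeff_single, Finsupp.single_apply]
  exact if_congr eq_comm rfl rfl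

/-- The homogeneous element `a T^n`. -/
def mon (n : ℤ) (a : A) (h : a ∈ 𝓕.F n.toNat) : 𝓕.extRees :=
  ⟨LaurentPolynomial.C a * T n, fun m => by
    rw [coeff_C_mul_T]
    split_ifs with e
    · subst e; exact h
    · exact Ideal.zero_mem _⟩

@[simp] theorem coe_mon (n : ℤ) (a : A) (h : a ∈ 𝓕.F n.toNat) :
    (mon 𝓕 n a h : A[T;T⁻¹]) = LaurentPolynomial.C a * T n := rfl

theorem coeff_mem (x : 𝓕.extRees) (n : ℤ) : (x : A[T;T⁻¹]).coeff n ∈ 𝓕.F n.toNat := x.2 n

/-- The degree `n` piece. -/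
def egr (n : ℤ) : AddSubgroup 𝓕.extRees where
  carrier := {x | ∀ m, m ≠ n → (x : A[T;T⁻¹]).coeff m = 0}
  zero_mem' := fun m _ => by simp
  add_mem' := fun {x y} hx hy m hm => by simp [hx m hm, hy m hm]
  neg_mem' := fun {x} hx m hm => by simp [hx m hm]

theorem mem_egr {n : ℤ} {x : 𝓕.extRees} :
    x ∈ egr 𝓕 n ↔ ∀ m, m ≠ n → (x : A[T;T⁻¹]).coeff m = 0 := Iff.rfl

theorem mon_mem (n : ℤ) (a : A) (h : a ∈ 𝓕.F n.toNat) : mon 𝓕 n a h ∈ egr 𝓕 n := fun m hm => by
  rw [coe_mon, coeff_C_mul_T, if_neg hm]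

theorem eq_mon {n : ℤ} {x : 𝓕.extRees} (hx : x ∈ egr 𝓕 n) :
    x = mon 𝓕 n _ (coeff_mem 𝓕 x n) := by
  refine Subtype.ext (LaurentPolynomial.ext fun m => ?_)
  rw [coe_mon, coeff_C_mul_T]
  by_cases h : m = n
  · subst h; simp
  · rw [if_neg h, hx m h]

theorem mon_mul_mon (n m : ℤ) (a b : A) (ha : a ∈ 𝓕.F n.toNat) (hb : b ∈ 𝓕.F m.toNat) :
    ∃ h, mon 𝓕 n a ha * mon 𝓕 m b hb = mon 𝓕 (n + m) (a * b) h := by
  refine ⟨𝓕.antitone (show (n + m).toNat ≤ n.toNat + m.toNat by omega)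
    (𝓕.mul_le _ _ (Ideal.mul_mem_mul ha hb)), Subtype.ext ?_⟩
  simp only [MulMemClass.coe_mul, coe_mon, map_mul, LaurentPolynomial.T_add]
  ring

instance : SetLike.GradedMonoid (egr 𝓕) where
  one_mem := fun m hm => by
    rw [OneMemClass.coe_one, ← LaurentPolynomial.T_zero, LaurentPolynomial.T_apply, if_neg (Ne.symm hm)]
  mul_mem i j x y hx hy := by
    obtain ⟨h, he⟩ := mon_mul_mon 𝓕 i j _ _ (coeff_mem 𝓕 x i) (coeff_mem 𝓕 y j)
    rw [eq_mon 𝓕 hx, eq_mon 𝓕 hy, he]
    exact mon_mem 𝓕 _ _ _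

theorem coeff_coeAddMonoidHom (a : DirectSum ℤ fun n => egr 𝓕 n) (m : ℤ) :
    ((DirectSum.coeAddMonoidHom (egr 𝓕) a : 𝓕.extRees) : A[T;T⁻¹]).coeff m =
      ((a m : 𝓕.extRees) : A[T;T⁻¹]).coeff m := by
  classical
  induction a using DirectSum.induction_on with
  | zero => simp
  | of e x =>
    rw [DirectSum.coeAddMonoidHom_of]
    by_cases h : m = e
    · subst h; rw [DirectSum.of_eq_same]
    · rw [DirectSum.of_eq_of_ne _ _ _ h, x.2 m h]; simp
  | add a b ha hb => simp [ha, hb]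

theorem isInternal_egr : DirectSum.IsInternal (egr 𝓕) := by
  classical
  constructor
  · intro a b hab
    refine DFinsupp.ext fun m => Subtype.ext (Subtype.ext (LaurentPolynomial.ext fun j => ?_))
    by_cases h : j = m
    · subst h
      rw [← coeff_coeAddMonoidHom, hab, coeff_coeAddMonoidHom]
    · rw [(a m).2 j h, (b m).2 j h]
  · intro x
    refine ⟨∑ n ∈ (x : A[T;T⁻¹]).coeff.support,
      DirectSum.of (fun n => egr 𝓕 n) n ⟨_, mon_mem 𝓕 n _ (coeff_mem 𝓕 x n)⟩, ?_⟩
    refine Subtype.ext (LaurentPolynomial.ext fun m => ?_)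
    simp only [map_sum, DirectSum.coeAddMonoidHom_of, AddSubmonoidClass.coe_finsetSum, coe_mon,
      AddMonoidAlgebra.coeff_sum, Finsupp.finsetSum_apply, coeff_C_mul_T]
    rw [Finset.sum_ite_eq]
    split_ifs with h
    · rfl
    · exact (Finsupp.notMem_support_iff.1 h).symm

instance gradedRing : GradedRing (egr 𝓕) :=
  { (isInternal_egr 𝓕).chooseDecomposition, (inferInstance : SetLike.GradedMonoid (egr 𝓕)) with }

theorem coeff_decompose (x : 𝓕.extRees) (n : ℤ) :
    ((DirectSum.decompose (egr 𝓕) x n : 𝓕.extRees) : A[T;T⁻¹]).coeff n = (x : A[T;T⁻¹]).coeff n := by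
  rw [← coeff_coeAddMonoidHom]
  exact congrArg (fun y : 𝓕.extRees => (y : A[T;T⁻¹]).coeff n)
    ((DirectSum.decompose (egr 𝓕)).symm_apply_apply x)

theorem coe_u : (𝓕.u : A[T;T⁻¹]) = T (-1) := rfl

theorem u_mem : 𝓕.u ∈ egr 𝓕 (-1) := fun m hm => by
  rw [coe_u, LaurentPolynomial.T_apply, if_neg (Ne.symm hm)]

theorem isSMulRegular_u : IsSMulRegular 𝓕.extRees 𝓕.u := by
  intro x y h
  have h1 := congrArg (Subtype.val (p := fun z => z ∈ 𝓕.extRees)) h
  simp only [smul_eq_mul, MulMemClass.coe_mul, coe_u] at h1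
  exact Subtype.ext ((LaurentPolynomial.isUnit_T (-1)).mul_left_cancel h1)

/-- The Rees algebra inside the extended Rees algebra. -/
def ofRees : 𝓕.rees →+* 𝓕.extRees :=
  ((Polynomial.toLaurent.comp 𝓕.rees.val.toRingHom)).codRestrict 𝓕.extRees.toSubring fun f => fun n => by
    change (Polynomial.toLaurent (f : A[X])).coeff n ∈ _
    rw [Polynomial.toLaurent_apply]
    by_cases hn : 0 ≤ n
    · obtain ⟨k, rfl⟩ := Int.eq_ofNat_of_zero_le hn
      rw [AddMonoidAlgebra.coeff_mapDomain, Finsupp.mapDomain_apply Nat.cast_injective]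
      exact f.2 k
    · rw [AddMonoidAlgebra.coeff_mapDomain, Finsupp.mapDomain_of_notMem_range]
      · exact Ideal.zero_mem _
      · rintro ⟨k, rfl⟩; exact hn (Int.natCast_nonneg k)

theorem isNoetherianRing_extRees [IsNoetherianRing A] (hfg : Algebra.FiniteType A 𝓕.rees) :
    IsNoetherianRing 𝓕.extRees := by
  haveI : IsNoetherianRing 𝓕.rees := Algebra.FiniteType.isNoetherianRing A 𝓕.rees
  refine isNoetherianRing_of_surjective _ _ (Polynomial.eval₂RingHom (ofRees 𝓕) 𝓕.u) fun x => ?_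
  induction x using DirectSum.Decomposition.inductionOn (egr 𝓕) with
  | zero => exact ⟨0, map_zero _⟩
  | add a b ha hb =>
    obtain ⟨a', rfl⟩ := ha
    obtain ⟨b', rfl⟩ := hb
    exact ⟨a' + b', map_add _ _ _⟩
  | @homogeneous n x =>
    suffices h : ∀ (a : A) (hmem : a ∈ 𝓕.F n.toNat),
        ∃ y, Polynomial.eval₂RingHom (ofRees 𝓕) 𝓕.u y = mon 𝓕 n a hmem by
      rw [eq_mon 𝓕 x.2]; exact h _ _
    intro a hmem
    by_cases hn : 0 ≤ n
    · obtain ⟨k, rfl⟩ := Int.eq_ofNat_of_zero_le hn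
      have hk : Polynomial.monomial k a ∈ 𝓕.rees := fun j => by
        rw [Polynomial.coeff_monomial]
        split_ifs with e
        · subst e; simpa using hmem
        · exact Ideal.zero_mem _
      refine ⟨Polynomial.C ⟨_, hk⟩, Subtype.ext ?_⟩
      rw [Polynomial.coe_eval₂RingHom, Polynomial.eval₂_C]
      exact Polynomial.toLaurent_C_mul_T k a
    · obtain ⟨k, rfl⟩ : ∃ k : ℕ, n = -(k : ℤ) := ⟨(-n).toNat, by omega⟩
      refine ⟨Polynomial.C (algebraMap A 𝓕.rees a) * Polynomial.X ^ k, Subtype.ext ?_⟩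
      simp only [Polynomial.coe_eval₂RingHom, Polynomial.eval₂_mul, Polynomial.eval₂_C,
        Polynomial.eval₂_X_pow, MulMemClass.coe_mul, SubmonoidClass.coe_pow, coe_u, coe_mon]
      rw [LaurentPolynomial.T_pow]
      congr 1
      · exact Polynomial.toLaurent_C a
      · congr 1; omega

section Local

variable [IsLocalRing A] (hsep : ⨅ n, 𝓕.F n = ⊥)

include hsep in
theorem F_le {n : ℕ} (hn : 0 < n) : 𝓕.F n ≤ IsLocalRing.maximalIdeal A := by
  refine (𝓕.antitone hn).trans (IsLocalRing.le_maximalIdeal fun h => ?_)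
  have : ∀ k, 𝓕.F k = ⊤ := by
    intro k
    induction k with
    | zero => exact 𝓕.zero_eq
    | succ k ih =>
      refine eq_top_iff.2 (le_trans ?_ (𝓕.mul_le k 1))
      rw [ih, h, Ideal.top_mul]
  rw [iInf_congr this, iInf_top] at hsep
  exact (bot_ne_top (α := Ideal A)) hsep.symm

include hsep in
/-- Residue of the degree zero coefficient. -/
def vertexHom : 𝓕.extRees →+* IsLocalRing.ResidueField A where
  toFun x := IsLocalRing.residue A ((x : A[T;T⁻¹]).coeff 0)
  map_one' := by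
    rw [OneMemClass.coe_one, ← LaurentPolynomial.T_zero, LaurentPolynomial.T_apply, if_pos rfl, map_one]
  map_zero' := by simp
  map_add' x y := by simp
  map_mul' x y := by
    have key : ∀ (i j : ℤ) (a b : A) (ha : a ∈ 𝓕.F i.toNat) (hb : b ∈ 𝓕.F j.toNat),
        IsLocalRing.residue A (((mon 𝓕 i a ha * mon 𝓕 j b hb : 𝓕.extRees) : A[T;T⁻¹]).coeff 0) =
          IsLocalRing.residue A ((mon 𝓕 i a ha : A[T;T⁻¹]).coeff 0) *
            IsLocalRing.residue A ((mon 𝓕 j b hb : A[T;T⁻¹]).coeff 0) := by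
      intro i j a b ha hb
      obtain ⟨h, he⟩ := mon_mul_mon 𝓕 i j a b ha hb
      rw [he, coe_mon, coe_mon, coe_mon, coeff_C_mul_T, coeff_C_mul_T, coeff_C_mul_T]
      by_cases h0 : 0 = i + j
      · rw [if_pos h0]
        by_cases hi : 0 = i
        · rw [if_pos hi, if_pos (show 0 = j by omega), map_mul]
        · rw [if_neg hi, map_zero, zero_mul, IsLocalRing.residue_eq_zero_iff]
          rcases lt_or_gt_of_ne hi with hpos | hneg
          · exact Ideal.mul_mem_right _ _ (F_le 𝓕 hsep (by omega) ha)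
          · exact Ideal.mul_mem_left _ _ (F_le 𝓕 hsep (by omega) hb)
      · rw [if_neg h0, map_zero]
        by_cases hi : 0 = i
        · rw [if_neg (show ¬ 0 = j by omega), map_zero, mul_zero]
        · rw [if_neg hi, map_zero, zero_mul]
    induction x using DirectSum.Decomposition.inductionOn (egr 𝓕) with
    | zero => simp
    | add a b ha hb =>
      simp only [MulMemClass.coe_mul, AddMemClass.coe_add, add_mul, AddMonoidAlgebra.coeff_add,
        Finsupp.add_apply, map_add] at ha hb ⊢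
      rw [ha, hb]
    | @homogeneous i x =>
      induction y using DirectSum.Decomposition.inductionOn (egr 𝓕) with
      | zero => simp
      | add a b ha hb =>
        simp only [MulMemClass.coe_mul, AddMemClass.coe_add, mul_add, AddMonoidAlgebra.coeff_add,
          Finsupp.add_apply, map_add] at ha hb ⊢
        rw [ha, hb]
      | @homogeneous j y => rw [eq_mon 𝓕 x.2, eq_mon 𝓕 y.2]; exact key _ _ _ _ _ _

/-- The maximal homogeneous ideal. -/
def vertex : Ideal 𝓕.extRees := RingHom.ker (vertexHom 𝓕 hsep)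

theorem mem_vertex {x : 𝓕.extRees} :
    x ∈ vertex 𝓕 hsep ↔ (x : A[T;T⁻¹]).coeff 0 ∈ IsLocalRing.maximalIdeal A :=
  IsLocalRing.residue_eq_zero_iff _

instance isMaximal_vertex : (vertex 𝓕 hsep).IsMaximal :=
  RingHom.ker_isMaximal_of_surjective _ fun c => by
    obtain ⟨a, rfl⟩ := IsLocalRing.residue_surjective c
    exact ⟨mon 𝓕 0 a (by simp [𝓕.zero_eq]), by simp [vertexHom, coeff_C_mul_T]⟩

theorem u_mem_vertex : 𝓕.u ∈ vertex 𝓕 hsep := by
  rw [mem_vertex, coe_u, LaurentPolynomial.T_apply, if_neg (by omega)]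
  exact Ideal.zero_mem _

theorem le_vertex {P : Ideal 𝓕.extRees} (hP : P ≠ ⊤) (hhom : P.IsHomogeneous (egr 𝓕)) :
    P ≤ vertex 𝓕 hsep := by
  intro x hx
  rw [mem_vertex]
  by_contra h
  have h0 := hhom 0 hx
  rw [eq_mon 𝓕 (DirectSum.decompose (egr 𝓕) x 0).2] at h0
  obtain ⟨v, hv⟩ := (not_not.1 fun h' => h ((IsLocalRing.mem_maximalIdeal _).2 h') :
    IsUnit ((x : A[T;T⁻¹]).coeff 0)).exists_left_inv
  refine hP (Ideal.eq_top_of_isUnit_mem _ h0 (IsUnit.of_mul_eq_one (mon 𝓕 0 v (by simp [𝓕.zero_eq])) ?_))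
  refine Subtype.ext ?_
  rw [MulMemClass.coe_mul, coe_mon, coe_mon, coeff_decompose, OneMemClass.coe_one,
    LaurentPolynomial.T_zero, mul_one, mul_one, mul_comm, ← map_mul, hv, map_one]

end Local

end Groth.Agent.FiltRees
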