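import Groth.Prelude.Def_W4c2filtblowupsingRees
import Mathlib.RingTheory.Valuation.Basic
import Mathlib.RingTheory.Polynomial.IsIntegral
import Mathlib.RingTheory.IntegralClosure.IntegrallyClosed

/-!
# Rees algebras of valuative filtrations are integrally closed in the polynomial ring
-/

set_option autoImplicit false
universe u

open Polynomial

noncomputable section

namespace Groth.Agent.FiltRees

variable {A K : Type u} [CommRing A] [Field K] [Algebra A K] (v : AddValuation K (WithTop ℤ)) (p q : ℕ)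

/-- `q v(a) - n p`. -/
def wt (n : ℕ) (a : A) : WithTop ℤ :=
  q • v (algebraMap A K a) + ((-((n : ℤ) * (p : ℤ)) : ℤ) : WithTop ℤ)

theorem nat_mul_eq_nsmul (x : WithTop ℤ) : (q : WithTop ℤ) * x = q • x := by
  cases q with
  | zero => simp
  | succ m =>
    cases x with
    | top =>
      rw [succ_nsmul, WithTop.add_top, WithTop.mul_top]
      exact_mod_cast (Nat.succ_ne_zero m)
    | coe z =>
      rw [show (((m + 1 : ℕ)) : WithTop ℤ) = (((m + 1 : ℕ) : ℤ) : WithTop ℤ) from rfl,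
        ← WithTop.coe_mul, ← WithTop.coe_nsmul, nsmul_eq_mul]

theorem zero_le_wt_iff (n : ℕ) (a : A) :
    0 ≤ wt v p q n a ↔ ((n * p : ℕ) : WithTop ℤ) ≤ (q : WithTop ℤ) * v (algebraMap A K a) := by
  rw [wt, nat_mul_eq_nsmul]
  cases q • v (algebraMap A K a) with
  | top => simp
  | coe z =>
    rw [← WithTop.coe_add, ← WithTop.coe_zero, WithTop.coe_le_coe,
      show ((n * p : ℕ) : WithTop ℤ) = (((n * p : ℕ) : ℤ) : WithTop ℤ) from rfl, WithTop.coe_le_coe]
    push_cast
    omega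

theorem wt_mul (i j : ℕ) (a b : A) : wt v p q (i + j) (a * b) = wt v p q i a + wt v p q j b := by
  rw [wt, wt, wt, map_mul, v.map_mul, nsmul_add, Nat.cast_add, add_mul, neg_add, WithTop.coe_add]
  abel

theorem wt_zero (hq : 0 < q) (n : ℕ) : wt v p q n (0 : A) = ⊤ := by
  obtain ⟨m, rfl⟩ := Nat.exists_eq_add_one_of_ne_zero hq.ne'
  rw [wt, map_zero, v.map_zero, succ_nsmul, WithTop.add_top, WithTop.top_add]

theorem wt_one : wt v p q 0 (1 : A) = 0 := by simp [wt, v.map_one]

theorem wt_neg (n : ℕ) (a : A) : wt v p q n (-a) = wt v p q n a := by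
  rw [wt, wt, map_neg, v.map_neg]

theorem min_le_wt_add (n : ℕ) (a b : A) : min (wt v p q n a) (wt v p q n b) ≤ wt v p q n (a + b) := by
  rw [wt, wt, wt, map_add, min_add_add_right]
  refine add_le_add ?_ le_rfl
  have h := v.map_add (algebraMap A K a) (algebraMap A K b)
  rcases le_total (v (algebraMap A K a)) (v (algebraMap A K b)) with hab | hab
  · rw [min_eq_left hab] at h
    exact (min_le_left _ _).trans (nsmul_le_nsmul_right h q)
  · rw [min_eq_right hab] at h
    exact (min_le_right _ _).trans (nsmul_le_nsmul_right h q)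

theorem le_wt_sum (hq : 0 < q) (n : ℕ) {ι : Type*} {s : Finset ι} {f : ι → A} {g : WithTop ℤ}
    (h : ∀ i ∈ s, g ≤ wt v p q n (f i)) : g ≤ wt v p q n (∑ i ∈ s, f i) :=
  Finset.sum_induction f (fun a => g ≤ wt v p q n a)
    (fun a b ha hb => (le_min ha hb).trans (min_le_wt_add v p q n a b))
    (by rw [wt_zero v p q hq]; exact le_top) h

theorem lt_wt_sum (hq : 0 < q) (n : ℕ) {ι : Type*} {s : Finset ι} {f : ι → A} {g : WithTop ℤ} (hg : g ≠ ⊤)
    (h : ∀ i ∈ s, g < wt v p q n (f i)) : g < wt v p q n (∑ i ∈ s, f i) :=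
  Finset.sum_induction f (fun a => g < wt v p q n a)
    (fun a b ha hb => (lt_min ha hb).trans_le (min_le_wt_add v p q n a b))
    (by rw [wt_zero v p q hq]; exact lt_top_iff_ne_top.2 hg) h

/-- every coefficient has weight at least `g` -/
def WtGE (f : A[X]) (g : WithTop ℤ) : Prop := ∀ n, g ≤ wt v p q n (f.coeff n)

theorem wtGE_mul (hq : 0 < q) {f g : A[X]} {α β : WithTop ℤ} (hf : WtGE v p q f α) (hg : WtGE v p q g β) :
    WtGE v p q (f * g) (α + β) := fun n => by
  rw [coeff_mul]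
  refine le_wt_sum v p q hq n fun ij hij => ?_
  rw [← Finset.mem_antidiagonal.1 hij, wt_mul]
  exact add_le_add (hf _) (hg _)

theorem wt_coeff_mul_extremal (hq : 0 < q) {f g : A[X]} {α β : WithTop ℤ} (hα : α ≠ ⊤) (hβ : β ≠ ⊤)
    (hf : WtGE v p q f α) (hg : WtGE v p q g β) {n m : ℕ}
    (hfn : wt v p q n (f.coeff n) = α) (hfn' : ∀ i < n, α < wt v p q i (f.coeff i))
    (hgm : wt v p q m (g.coeff m) = β) (hgm' : ∀ j < m, β < wt v p q j (g.coeff j)) :
    wt v p q (n + m) ((f * g).coeff (n + m)) = α + β := by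
  classical
  refine le_antisymm ?_ (wtGE_mul v p q hq hf hg _)
  by_contra hcon
  rw [not_le] at hcon
  rw [coeff_mul] at hcon
  have hrest : α + β < wt v p q (n + m)
      (∑ x ∈ (Finset.antidiagonal (n + m)).erase (n, m), f.coeff x.1 * g.coeff x.2) := by
    refine lt_wt_sum v p q hq _ (WithTop.add_ne_top.2 ⟨hα, hβ⟩) fun ij hij => ?_
    obtain ⟨hne, hij⟩ := Finset.mem_erase.1 hij
    have hs := Finset.mem_antidiagonal.1 hij
    rw [← hs, wt_mul]
    rcases lt_trichotomy ij.1 n with h | h | h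
    · exact WithTop.add_lt_add_of_lt_of_le hβ (hfn' _ h) (hg _)
    · exact absurd (Prod.ext h (show ij.2 = m by omega)) hne
    · exact WithTop.add_lt_add_of_le_of_lt hα (hf _) (hgm' _ (by omega))
  have hmain : α + β < wt v p q (n + m) (f.coeff n * g.coeff m) := by
    have h := Finset.add_sum_erase (Finset.antidiagonal (n + m)) (fun x => f.coeff x.1 * g.coeff x.2)
      (Finset.mem_antidiagonal.2 (rfl : (n, m).1 + (n, m).2 = n + m))
    rw [eq_add_neg_of_add_eq h]
    refine lt_of_lt_of_le (lt_min hcon ?_) (min_le_wt_add v p q _ _ _)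
    rw [wt_neg]; exact hrest
  rw [wt_mul, hfn, hgm] at hmain
  exact lt_irrefl _ hmain

theorem pow_extremal (hq : 0 < q) {f : A[X]} {α : WithTop ℤ} (hα : α ≠ ⊤) (hf : WtGE v p q f α) {n : ℕ}
    (hfn : wt v p q n (f.coeff n) = α) (hfn' : ∀ i < n, α < wt v p q i (f.coeff i)) (k : ℕ) :
    WtGE v p q (f ^ k) (k • α) ∧ wt v p q (k * n) ((f ^ k).coeff (k * n)) = k • α ∧
      ∀ i < k * n, k • α < wt v p q i ((f ^ k).coeff i) := by
  induction k with
  | zero =>
    refine ⟨fun i => ?_, by simp [wt_one], by simp⟩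
    rw [pow_zero, zero_nsmul, coeff_one]
    split_ifs with h
    · subst h; rw [wt_one]
    · rw [wt_zero v p q hq]; exact le_top
  | succ k ih =>
    obtain ⟨h1, h2, h3⟩ := ih
    have hk : k • α ≠ ⊤ := by
      obtain ⟨z, rfl⟩ := WithTop.ne_top_iff_exists.1 hα
      rw [← WithTop.coe_nsmul]; exact WithTop.coe_ne_top
    rw [pow_succ, succ_nsmul, Nat.succ_mul]
    refine ⟨wtGE_mul v p q hq h1 hf, wt_coeff_mul_extremal v p q hq hk hα h1 hf h2 h3 hfn hfn', fun i hi => ?_⟩
    rw [coeff_mul]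
    refine lt_wt_sum v p q hq _ (WithTop.add_ne_top.2 ⟨hk, hα⟩) fun ij hij => ?_
    have hs := Finset.mem_antidiagonal.1 hij
    rw [← hs, wt_mul]
    rcases lt_or_ge ij.1 (k * n) with h | h
    · exact WithTop.add_lt_add_of_lt_of_le hα (h3 _ h) (hf _)
    · exact WithTop.add_lt_add_of_le_of_lt hk (h1 _) (hfn' _ (by omega))

theorem wtGE_zero_of_isIntegral (hq : 0 < q) {R : Subalgebra A A[X]}
    (hR : ∀ f ∈ R, WtGE v p q f 0) {h : A[X]} (hh : IsIntegral R h) : WtGE v p q h 0 := by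
  classical
  intro n₀
  by_contra hneg
  rw [not_le] at hneg
  have hne : h.support.Nonempty := ⟨n₀, mem_support_iff.2 fun hz => by
    rw [hz, wt_zero v p q hq] at hneg; exact not_top_lt hneg⟩
  obtain ⟨m, hm, hmin⟩ := h.support.exists_min_image (fun i => wt v p q i (h.coeff i)) hne
  set α := wt v p q m (h.coeff m) with hαdef
  have hall : WtGE v p q h α := fun i => by
    by_cases hi : i ∈ h.support
    · exact hmin i hi
    · rw [notMem_support_iff.1 hi, wt_zero v p q hq]; exact le_top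
  have hαneg : α < 0 := (hall n₀).trans_lt hneg
  obtain ⟨z, hz⟩ := WithTop.ne_top_iff_exists.1 (hαneg.trans_le le_top).ne
  have hex : ∃ i, wt v p q i (h.coeff i) = α := ⟨m, rfl⟩
  set n := Nat.find hex
  have hn : wt v p q n (h.coeff n) = α := Nat.find_spec hex
  have hn' : ∀ i < n, α < wt v p q i (h.coeff i) := fun i hi =>
    lt_of_le_of_ne (hall i) (Ne.symm (Nat.find_min hex hi))
  obtain ⟨P, hP, hPh⟩ := hh
  set N := P.natDegree
  have hα : α ≠ ⊤ := hz ▸ WithTop.coe_ne_top
  obtain ⟨-, hN, -⟩ := pow_extremal v p q hq hα hall hn hn' N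
  have hsum : h ^ N = -∑ j ∈ Finset.range N, ((P.coeff j : R) : A[X]) * h ^ j := by
    rw [eval₂_eq_sum_range, Finset.sum_range_succ, hP.coeff_natDegree, map_one, one_mul] at hPh
    exact eq_neg_of_add_eq_zero_left ((add_comm _ _).trans hPh)
  rw [hsum, coeff_neg, finset_sum_coeff, wt_neg] at hN
  have hlt : N • α < wt v p q (N * n) (∑ j ∈ Finset.range N, (((P.coeff j : R) : A[X]) * h ^ j).coeff (N * n)) := by
    refine lt_wt_sum v p q hq _ (by rw [← hz, ← WithTop.coe_nsmul]; exact WithTop.coe_ne_top) fun j hj => ?_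
    refine lt_of_lt_of_le ?_ (wtGE_mul v p q hq (hR _ (P.coeff j).2) (pow_extremal v p q hq hα hall hn hn' j).1 _)
    rw [zero_add, ← hz, ← WithTop.coe_nsmul, ← WithTop.coe_nsmul, WithTop.coe_lt_coe, nsmul_eq_mul, nsmul_eq_mul]
    rw [← hz, ← WithTop.coe_zero, WithTop.coe_lt_coe] at hαneg
    exact mul_lt_mul_of_neg_right (by exact_mod_cast Finset.mem_range.1 hj) hαneg
  exact hlt.ne' hN

end Groth.Agent.FiltRees
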