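import Mathlib.RingTheory.GradedAlgebra.Homogeneous.Ideal
import Mathlib.RingTheory.IntegralClosure.IsIntegral.AlmostIntegral
import Mathlib.RingTheory.GradedAlgebra.Radical

/-!
# Integral elements over a graded Noetherian domain are sums of homogeneous fractions
-/

set_option autoImplicit false
set_option linter.unusedSectionVars false
universe u

open DirectSum

noncomputable section

namespace Groth.Agent.FiltRees

variable {G : Type u} [CommRing G] {σ : Type*} [SetLike σ G] [AddSubgroupClass σ G]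
variable (𝒢 : ℕ → σ) [GradedRing 𝒢]

/-- components vanish in degrees `≥ n` -/
def VanishFrom (n : ℕ) (x : G) : Prop := ∀ i, n ≤ i → (decompose 𝒢 x i : G) = 0

theorem exists_vanishFrom (x : G) : ∃ n, VanishFrom 𝒢 n x := by
  classical
  refine ⟨(decompose 𝒢 x).support.sup id + 1, fun i hi => ?_⟩
  by_contra h
  have hi' : i ∈ (decompose 𝒢 x).support := DFinsupp.mem_support_toFun _ _ |>.2 fun h0 => h (by rw [h0]; rfl)
  have := Finset.le_sup (f := id) hi'
  simp only [id] at this
  omega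

theorem eq_zero_of_vanishFrom_zero {x : G} (h : VanishFrom 𝒢 0 x) : x = 0 := by
  classical
  rw [← sum_support_decompose 𝒢 x]
  exact Finset.sum_eq_zero fun i _ => h i (Nat.zero_le _)

theorem exists_top {x : G} (hx : x ≠ 0) : ∃ d, VanishFrom 𝒢 (d + 1) x ∧ (decompose 𝒢 x d : G) ≠ 0 := by
  classical
  have hex := exists_vanishFrom 𝒢 x
  have h0 : Nat.find hex ≠ 0 := fun h =>
    hx (eq_zero_of_vanishFrom_zero 𝒢 (h ▸ Nat.find_spec hex))
  obtain ⟨d, hd⟩ := Nat.exists_eq_add_one_of_ne_zero h0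
  refine ⟨d, hd ▸ Nat.find_spec hex, fun h => ?_⟩
  refine Nat.find_min hex (show d < Nat.find hex by omega) fun i hi => ?_
  rcases eq_or_lt_of_le hi with rfl | hi
  · exact h
  · have := Nat.find_spec hex
    rw [hd] at this
    exact this i hi

theorem sum_range_of_vanishFrom {x : G} {n : ℕ} (h : VanishFrom 𝒢 n x) :
    ∑ i ∈ Finset.range n, (decompose 𝒢 x i : G) = x := by
  classical
  conv_rhs => rw [← sum_support_decompose 𝒢 x]
  refine (Finset.sum_subset (fun i hi => ?_) fun i _ hi => ?_).symm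
  · refine Finset.mem_range.2 (lt_of_not_ge fun hle => ?_)
    exact (DFinsupp.mem_support_toFun _ _).1 hi (Subtype.ext (h i hle))
  · rw [DFinsupp.notMem_support_iff.1 hi]; rfl

theorem decompose_mul_eq_sum {x : G} {n : ℕ} (h : VanishFrom 𝒢 n x) (y : G) (m : ℕ) :
    (decompose 𝒢 (x * y) m : G) = ∑ i ∈ Finset.range n,
      if i ≤ m then (decompose 𝒢 x i : G) * (decompose 𝒢 y (m - i) : G) else 0 := by
  classical
  conv_lhs => rw [← sum_range_of_vanishFrom 𝒢 h, Finset.sum_mul, decompose_sum, DFinsupp.finsetSum_apply,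
    AddSubmonoidClass.coe_finsetSum]
  exact Finset.sum_congr rfl fun i _ => coe_decompose_mul_of_left_mem 𝒢 m (SetLike.coe_mem _)

theorem vanishFrom_mul {x y : G} {a b : ℕ} (hx : VanishFrom 𝒢 (a + 1) x) (hy : VanishFrom 𝒢 b y) :
    VanishFrom 𝒢 (a + b) (x * y) := fun m hm => by
  rw [decompose_mul_eq_sum 𝒢 hx]
  refine Finset.sum_eq_zero fun i hi => ?_
  split_ifs with h
  · rw [hy (m - i) (by have := Finset.mem_range.1 hi; omega), mul_zero]
  · rfl

theorem decompose_mul_top {x y : G} {a b : ℕ} (hx : VanishFrom 𝒢 (a + 1) x) (hy : VanishFrom 𝒢 (b + 1) y) :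
    (decompose 𝒢 (x * y) (a + b) : G) = (decompose 𝒢 x a : G) * (decompose 𝒢 y b : G) := by
  rw [decompose_mul_eq_sum 𝒢 hx, Finset.sum_eq_single a]
  · rw [if_pos (Nat.le_add_right a b), Nat.add_sub_cancel_left]
  · intro i hi hne
    split_ifs with h
    · rw [hy (a + b - i) (by have := Finset.mem_range.1 hi; omega), mul_zero]
    · rfl
  · intro h; exact absurd (Finset.mem_range.2 (Nat.lt_succ_self a)) h

theorem pow_top {x : G} {a : ℕ} (hx : VanishFrom 𝒢 (a + 1) x) (N : ℕ) :
    VanishFrom 𝒢 (N * a + 1) (x ^ N) ∧ (decompose 𝒢 (x ^ N) (N * a) : G) = (decompose 𝒢 x a : G) ^ N := by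
  induction N with
  | zero =>
    rw [Nat.zero_mul, pow_zero, pow_zero]
    refine ⟨fun i hi => ?_, decompose_of_mem_same 𝒢 SetLike.GradedOne.one_mem⟩
    exact decompose_of_mem_ne 𝒢 SetLike.GradedOne.one_mem (by omega)
  | succ N ih =>
    rw [pow_succ, pow_succ, Nat.succ_mul]
    refine ⟨?_, by rw [decompose_mul_top 𝒢 ih.1 hx, ih.2]⟩
    rw [show N * a + a + 1 = N * a + (a + 1) by omega]
    exact vanishFrom_mul 𝒢 ih.1 hx

theorem decompose_sub' (x y : G) (i : ℕ) :
    (decompose 𝒢 (x - y) i : G) = (decompose 𝒢 x i : G) - (decompose 𝒢 y i : G) := by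
  rw [decompose_sub, DirectSum.sub_apply, AddSubgroupClass.coe_sub]

variable [IsNoetherianRing G] [IsDomain G] (L : Type u) [Field L] [Algebra G L] [IsFractionRing G L]

/-- Homogeneous fractions that are integral. -/
def homFrac : Set L :=
  {t | IsIntegral G t ∧ ∃ (i j : ℕ) (a s : G), a ∈ 𝒢 i ∧ s ∈ 𝒢 j ∧ s ≠ 0 ∧
    t * algebraMap G L s = algebraMap G L a}

theorem exists_leading {u : L} (hu : IsIntegral G u) {a s : G} (hs : s ≠ 0) (ha : a ≠ 0)
    (h : u * algebraMap G L s = algebraMap G L a) {i j : ℕ} (hi : VanishFrom 𝒢 (i + 1) a)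
    (hi' : (decompose 𝒢 a i : G) ≠ 0) (hj : VanishFrom 𝒢 (j + 1) s) (hj' : (decompose 𝒢 s j : G) ≠ 0) :
    j ≤ i ∧ ∃ t : L, IsIntegral G t ∧
      t * algebraMap G L (decompose 𝒢 s j : G) = algebraMap G L (decompose 𝒢 a i : G) := by
  obtain ⟨c, hc, hcu⟩ := hu.isAlmostIntegral
  have hc0 : c ≠ 0 := nonZeroDivisors.ne_zero hc
  obtain ⟨e, he, he'⟩ := exists_top 𝒢 hc0
  have hinj := IsFractionRing.injective G L
  have key : ∀ N : ℕ, ∃ (g : G) (d : ℕ), d + N * j = e + N * i ∧
      (decompose 𝒢 c e : G) * (decompose 𝒢 a i : G) ^ N = g * (decompose 𝒢 s j : G) ^ N := by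
    intro N
    obtain ⟨g, hg⟩ := hcu N
    have h1 : c * a ^ N = g * s ^ N := hinj (by
      rw [map_mul, map_mul, map_pow, map_pow, ← h, mul_pow, hg, Algebra.smul_def]; ring)
    have hg0 : g ≠ 0 := fun h0 => by
      rw [h0, zero_mul] at h1
      exact mul_ne_zero hc0 (pow_ne_zero _ ha) h1
    obtain ⟨d, hd, hd'⟩ := exists_top 𝒢 hg0
    obtain ⟨hai, hai'⟩ := pow_top 𝒢 hi N
    obtain ⟨hsj, hsj'⟩ := pow_top 𝒢 hj N
    have hdeg : d + N * j = e + N * i := by
      rcases lt_trichotomy (d + N * j) (e + N * i) with hlt | heq | hgt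
      · exfalso
        have h2 := decompose_mul_top 𝒢 he hai
        rw [h1, hai', vanishFrom_mul 𝒢 hd hsj (e + N * i) (by omega)] at h2
        exact mul_ne_zero he' (pow_ne_zero _ hi') h2.symm
      · exact heq
      · exfalso
        have h2 := decompose_mul_top 𝒢 hd hsj
        rw [← h1, hsj', vanishFrom_mul 𝒢 he hai (d + N * j) (by omega)] at h2
        exact mul_ne_zero hd' (pow_ne_zero _ hj') h2.symm
    refine ⟨(decompose 𝒢 g d : G), d, hdeg, ?_⟩
    rw [← hai', ← decompose_mul_top 𝒢 he hai, h1, ← hdeg, decompose_mul_top 𝒢 hd hsj, hsj']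
  refine ⟨?_, ?_⟩
  · by_contra hlt
    obtain ⟨g, d, hd, -⟩ := key (e + 1)
    have : (e + 1) * (i + 1) ≤ (e + 1) * j := Nat.mul_le_mul_left _ (by omega)
    rw [Nat.mul_succ] at this
    omega
  · have hs0 : algebraMap G L (decompose 𝒢 s j : G) ≠ 0 := (map_ne_zero_iff _ hinj).2 hj'
    refine ⟨algebraMap G L (decompose 𝒢 a i : G) / algebraMap G L (decompose 𝒢 s j : G),
      IsAlmostIntegral.isIntegral ⟨(decompose 𝒢 c e : G), mem_nonZeroDivisors_of_ne_zero he', fun N => ?_⟩,
      div_mul_cancel₀ _ hs0⟩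
    obtain ⟨g, d, -, hg⟩ := key N
    refine ⟨g, ?_⟩
    rw [Algebra.smul_def, div_pow, ← mul_div_assoc, eq_div_iff (pow_ne_zero _ hs0), ← map_pow, ← map_pow,
      ← map_mul, ← map_mul, hg]

/-- Every integral element is a sum of integral homogeneous fractions. -/
theorem mem_span_homFrac {u : L} (hu : IsIntegral G u) : u ∈ Submodule.span G (homFrac 𝒢 L) := by
  suffices H : ∀ (n : ℕ) (u : L) (a s : G) (j : ℕ), IsIntegral G u → s ≠ 0 →
      VanishFrom 𝒢 (j + 1) s → (decompose 𝒢 s j : G) ≠ 0 → VanishFrom 𝒢 (j + n) a →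
      u * algebraMap G L s = algebraMap G L a → u ∈ Submodule.span G (homFrac 𝒢 L) by
    obtain ⟨⟨a, s⟩, h⟩ := IsLocalization.surj (nonZeroDivisors G) u
    obtain ⟨j, hj, hj'⟩ := exists_top 𝒢 (nonZeroDivisors.ne_zero s.2)
    obtain ⟨m, hm⟩ := exists_vanishFrom 𝒢 a
    exact H m u a s j hu (nonZeroDivisors.ne_zero s.2) hj hj' (fun i hi => hm i (by omega)) h
  intro n
  induction n with
  | zero =>
    intro u a s j hu hs hj hj' ha h
    rcases eq_or_ne a 0 with rfl | hne
    · rw [map_zero, mul_eq_zero] at h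
      rcases h with rfl | h
      · exact zero_mem _
      · exact absurd h ((map_ne_zero_iff _ (IsFractionRing.injective G L)).2 hs)
    · obtain ⟨i, hi, hi'⟩ := exists_top 𝒢 hne
      obtain ⟨hle, -⟩ := exists_leading 𝒢 L hu hs hne h hi hi' hj hj'
      exact absurd (ha i (by omega)) hi'
  | succ n ih =>
    intro u a s j hu hs hj hj' ha h
    by_cases htop : (decompose 𝒢 a (j + n) : G) = 0
    · refine ih u a s j hu hs hj hj' (fun i hi => ?_) h
      rcases eq_or_lt_of_le hi with rfl | hlt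
      · exact htop
      · exact ha i hlt
    have hne : a ≠ 0 := fun h0 => htop (by rw [h0, decompose_zero]; rfl)
    obtain ⟨-, t, ht, hts⟩ := exists_leading 𝒢 L hu hs hne h (i := j + n) ha htop hj hj'
    have htS : t ∈ homFrac 𝒢 L :=
      ⟨ht, j + n, j, _, _, SetLike.coe_mem _, SetLike.coe_mem _, hj', hts⟩
    rw [← sub_add_cancel u t]
    refine add_mem ?_ (Submodule.subset_span htS)
    set aj := (decompose 𝒢 a (j + n) : G)
    set sj := (decompose 𝒢 s j : G)
    have hajv : VanishFrom 𝒢 (j + n + 1) aj := fun i hi =>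
      decompose_of_mem_ne 𝒢 (SetLike.coe_mem _) (by omega)
    have hsjv : VanishFrom 𝒢 (j + 1) sj := fun i hi =>
      decompose_of_mem_ne 𝒢 (SetLike.coe_mem _) (by omega)
    have hajs : (decompose 𝒢 aj (j + n) : G) = aj := decompose_of_mem_same 𝒢 (SetLike.coe_mem _)
    have hsjs : (decompose 𝒢 sj j : G) = sj := decompose_of_mem_same 𝒢 (SetLike.coe_mem _)
    refine ih (u - t) (a * sj - aj * s) (s * sj) (j + j) (hu.sub ht) (mul_ne_zero hs hj') ?_ ?_ ?_ ?_
    · rw [show j + j + 1 = j + (j + 1) by omega]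
      exact vanishFrom_mul 𝒢 hj hsjv
    · rw [decompose_mul_top 𝒢 hj hsjv, hsjs]
      exact mul_ne_zero hj' hj'
    · have ha' : VanishFrom 𝒢 (j + n + 1) a := fun i hi => ha i (by omega)
      intro i hi
      rw [decompose_sub']
      rcases eq_or_lt_of_le hi with rfl | hlt
      · rw [show j + j + n = (j + n) + j by omega, decompose_mul_top 𝒢 ha' hsjv,
          decompose_mul_top 𝒢 hajv hj, hajs, hsjs, sub_self]
      · rw [vanishFrom_mul 𝒢 ha' hsjv i (by omega), vanishFrom_mul 𝒢 hajv hj i (by omega), sub_self]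
    · rw [map_sub, map_mul, map_mul, map_mul, ← h, ← hts]
      ring

/-- The conductor of a homogeneous fraction, as a homogeneous ideal. -/
theorem exists_notMem_component {t : L} {i j : ℕ} {a s : G} (ha : a ∈ 𝒢 i) (hs : s ∈ 𝒢 j) (hs0 : s ≠ 0)
    (h : t * algebraMap G L s = algebraMap G L a) {c g : G} (hc : algebraMap G L c * t = algebraMap G L g)
    (d : ℕ) : ∃ g' : G, algebraMap G L (decompose 𝒢 c d : G) * t = algebraMap G L g' := by
  have hinj := IsFractionRing.injective G L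
  have h1 : c * a = g * s := hinj (by rw [map_mul, map_mul, ← h, ← mul_assoc, hc])
  refine ⟨if j ≤ d + i then (decompose 𝒢 g (d + i - j) : G) else 0, ?_⟩
  refine mul_right_cancel₀ ((map_ne_zero_iff _ hinj).2 hs0) ?_
  rw [mul_assoc, h, ← map_mul, ← map_mul, ← coe_decompose_mul_add_of_right_mem 𝒢 (i := d) ha, h1,
    coe_decompose_mul_of_right_mem 𝒢 (d + i) hs, apply_ite (fun x : G => x * s), zero_mul]

end Groth.Agent.FiltRees
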