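import Groth.Agent.FiltRees.GrIntegral
import Groth.Agent.EGA2Gr.Irrelevant
import Groth.Agent.S10862
import Groth.Agent.S12916
import Groth.Agent.ZClosLib.HeightOneHull
import Groth.Agent.VarDim.Algebra
import Groth.Agent.LocCoh.DepthVanishing
import Groth.Agent.GrLC.LocCohLES
import Mathlib.RingTheory.Support

/-!
# The normalisation of a graded domain over a field
-/

set_option autoImplicit false
set_option linter.style.haveILetI false
set_option linter.unusedSectionVars false
universe u

open DirectSum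
open scoped Pointwise

noncomputable section

namespace Groth.Agent.FiltRees

variable {k : Type u} [Field k] {G : Type u} [CommRing G] [IsDomain G] [Algebra k G] [IsNoetherianRing G]
variable (𝒢 : ℕ → Submodule k G) [GradedAlgebra 𝒢]
variable (h0 : ∀ x ∈ 𝒢 0, x ∈ Set.range (algebraMap k G))

local notation "m₊" => HomogeneousIdeal.toIdeal (HomogeneousIdeal.irrelevant 𝒢)

include h0 in
theorem finiteType_graded : Algebra.FiniteType k G := by
  haveI : Algebra.FiniteType (𝒢 0) G := EGA2Gr.finiteType_of_fg 𝒢 (IsNoetherian.noetherian _)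
  have hs : Function.Surjective (algebraMap k (𝒢 0)) := fun x => by
    obtain ⟨c, hc⟩ := h0 (x : G) x.2
    exact ⟨c, Subtype.ext hc⟩
  haveI : IsScalarTower k (𝒢 0) G := ⟨fun a b c => by
    change ((a • b : 𝒢 0) : G) * c = a • ((b : G) * c)
    exact smul_mul_assoc a (b : G) c⟩
  haveI : Algebra.FiniteType k (𝒢 0) :=
    Algebra.FiniteType.of_surjective (Algebra.ofId k (𝒢 0)) hs
  exact Algebra.FiniteType.trans (R := k) (S := 𝒢 0) inferInstance inferInstance

include h0 in
theorem le_irrelevant {P : Ideal G} (hP : P ≠ ⊤) (hhom : P.IsHomogeneous 𝒢) : P ≤ m₊ := by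
  intro x hx
  rw [EGA2Gr.mem_irrelevant_iff']
  by_contra h
  obtain ⟨c, hc⟩ := h0 _ (SetLike.coe_mem (decompose 𝒢 x 0))
  have hc0 : c ≠ 0 := fun hz => h (by rw [← hc, hz, map_zero])
  exact hP (Ideal.eq_top_of_isUnit_mem _ (hhom 0 hx) (hc ▸ (isUnit_iff_ne_zero.2 hc0).map _))

include h0 in
theorem isMaximal_irrelevant : (m₊).IsMaximal := by
  refine Ideal.isMaximal_iff.2 ⟨fun h => ?_, fun J x hJ hxm hxJ => ?_⟩
  · rw [EGA2Gr.mem_irrelevant_iff', decompose_of_mem_same 𝒢 SetLike.GradedOne.one_mem] at h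
    exact one_ne_zero h
  · rw [EGA2Gr.mem_irrelevant_iff'] at hxm
    obtain ⟨c, hc⟩ := h0 _ (SetLike.coe_mem (decompose 𝒢 x 0))
    have hc0 : c ≠ 0 := fun hz => hxm (by rw [← hc, hz, map_zero])
    have hmem : x - (decompose 𝒢 x 0 : G) ∈ m₊ := by
      rw [EGA2Gr.mem_irrelevant_iff', decompose_sub, DirectSum.sub_apply, AddSubgroupClass.coe_sub,
        decompose_of_mem_same 𝒢 (SetLike.coe_mem _), sub_self]
    have h1 : (decompose 𝒢 x 0 : G) ∈ J := by
      have := J.sub_mem hxJ (hJ hmem)
      rwa [sub_sub_cancel] at this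
    exact (Ideal.eq_top_of_isUnit_mem _ h1 (hc ▸ (isUnit_iff_ne_zero.2 hc0).map _)) ▸ trivial

variable (L : Type u) [Field L] [Algebra G L] [IsFractionRing G L]

/-- the normalisation -/
abbrev Nrm (G : Type u) [CommRing G] (L : Type u) [Field L] [Algebra G L] : Type u := ↥(integralClosure G L)

/-- the cokernel of the normalisation -/
abbrev Cok (G : Type u) [CommRing G] (L : Type u) [Field L] [Algebra G L] : Type u :=
  Nrm G L ⧸ LinearMap.range (Algebra.linearMap G (Nrm G L))

include h0 in
theorem finite_normalisation : Module.Finite G (Nrm G L) := by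
  haveI := finiteType_graded 𝒢 h0
  exact S10862.result k G L L

theorem smul_mk_eq_zero_iff (c : G) (t : (Nrm G L)) :
    c • (Submodule.Quotient.mk t : (Cok G L)) = 0 ↔ ∃ g, algebraMap G L c * (t : L) = algebraMap G L g := by
  rw [← Submodule.Quotient.mk_smul, Submodule.Quotient.mk_eq_zero, LinearMap.mem_range]
  refine exists_congr fun g => ?_
  rw [Algebra.linearMap_apply, ← Subtype.coe_inj, Algebra.smul_def, MulMemClass.coe_mul]
  exact eq_comm

include h0 in
/-- If the cokernel has finite length it is supported at the vertex only. -/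
theorem support_subset (hfin : IsFiniteLength G (Cok G L)) {p : PrimeSpectrum G} (hp : p ∈ Module.support G (Cok G L)) :
    p.asIdeal = m₊ := by
  classical
  haveI := finite_normalisation 𝒢 h0 L
  have hmax : ∀ q : PrimeSpectrum G, q ∈ Module.support G (Cok G L) → q.asIdeal.IsMaximal := by
    intro q hq
    obtain ⟨-, hart⟩ := isFiniteLength_iff_isNoetherian_isArtinian.1 hfin
    haveI := hart
    haveI : Module.Finite G (Cok G L) := Module.Finite.quotient G _
    haveI : IsArtinianRing (G ⧸ Module.annihilator G (Cok G L)) := by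
      obtain ⟨n, v, hv⟩ := Module.Finite.exists_fin (R := G) (M := Cok G L)
      let φ : G →ₗ[G] (Fin n → Cok G L) := LinearMap.pi fun i => LinearMap.toSpanSingleton G (Cok G L) (v i)
      have hker : LinearMap.ker φ = Module.annihilator G (Cok G L) := by
        ext b
        rw [LinearMap.mem_ker, Module.mem_annihilator]
        refine ⟨fun h m => ?_, fun h => funext fun i => h (v i)⟩
        have hm : m ∈ Submodule.span G (Set.range v) := hv ▸ trivial
        induction hm using Submodule.span_induction with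
        | mem x hx =>
          obtain ⟨i, rfl⟩ := hx
          exact congrFun h i
        | zero => exact smul_zero b
        | add x y _ _ hx hy => rw [smul_add, hx, hy, add_zero]
        | smul c x _ hx => rw [smul_comm, hx, smul_zero]
      have h' : IsArtinian G (G ⧸ Module.annihilator G (Cok G L)) :=
        isArtinian_of_injective ((Module.annihilator G (Cok G L)).liftQ φ hker.ge)
          (LinearMap.ker_eq_bot.mp (Submodule.ker_liftQ_eq_bot' _ _ hker.symm))
      exact isArtinian_of_tower G h'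
    rw [Module.support_eq_zeroLocus] at hq
    haveI : (q.asIdeal.map (Ideal.Quotient.mk (Module.annihilator G (Cok G L)))).IsPrime :=
      Ideal.map_isPrime_of_surjective Ideal.Quotient.mk_surjective (by rw [Ideal.mk_ker]; exact hq)
    haveI := IsArtinianRing.isMaximal_of_isPrime (q.asIdeal.map (Ideal.Quotient.mk (Module.annihilator G (Cok G L))))
    have := Ideal.comap_isMaximal_of_surjective (Ideal.Quotient.mk (Module.annihilator G (Cok G L)))
      Ideal.Quotient.mk_surjective (K := q.asIdeal.map (Ideal.Quotient.mk (Module.annihilator G (Cok G L))))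
    rwa [Ideal.comap_map_of_surjective _ Ideal.Quotient.mk_surjective, ← RingHom.ker_eq_comap_bot,
      Ideal.mk_ker, sup_eq_left.2 hq] at this
  -- some homogeneous fraction survives at `p`
  obtain ⟨t, htS, ht⟩ : ∃ t : (Nrm G L), (t : L) ∈ homFrac 𝒢 L ∧
      ∀ c, c ∉ p.asIdeal → c • (Submodule.Quotient.mk t : (Cok G L)) ≠ 0 := by
    by_contra hcon
    push Not at hcon
    obtain ⟨w, hw⟩ := Module.mem_support_iff'.1 hp
    obtain ⟨w, rfl⟩ := Submodule.Quotient.mk_surjective _ w
    suffices ∀ u ∈ Submodule.span G (homFrac 𝒢 L), ∀ hu : IsIntegral G u,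
        ∃ c ∉ p.asIdeal, c • (Submodule.Quotient.mk (⟨u, hu⟩ : (Nrm G L)) : (Cok G L)) = 0 by
      obtain ⟨c, hc, hc'⟩ := this w (mem_span_homFrac 𝒢 L w.2) w.2
      exact hw c hc hc'
    intro u hu
    induction hu using Submodule.span_induction with
    | mem v hv =>
      intro hv'
      exact hcon ⟨v, hv'⟩ hv
    | zero => intro _; exact ⟨1, (Ideal.ne_top_iff_one _).1 p.isPrime.ne_top, by rw [one_smul]; rfl⟩
    | add a b ha hb iha ihb =>
      intro hab
      have hint : ∀ v ∈ Submodule.span G (homFrac 𝒢 L), IsIntegral G v := fun v hv =>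
        Submodule.span_le (p := Subalgebra.toSubmodule (integralClosure G L)).2 (fun y hy => hy.1) hv
      obtain ⟨c, hc, hc'⟩ := iha (hint a ha)
      obtain ⟨d, hd, hd'⟩ := ihb (hint b hb)
      refine ⟨c * d, fun h => (p.isPrime.mem_or_mem h).elim hc hd, ?_⟩
      rw [show (⟨a + b, hab⟩ : (Nrm G L)) = ⟨a, hint a ha⟩ + ⟨b, hint b hb⟩ from rfl, Submodule.Quotient.mk_add,
        smul_add, mul_comm, mul_smul, hc', smul_zero, mul_comm, mul_smul, hd', smul_zero, add_zero]
    | smul r a ha iha =>
      intro hra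
      have hint : IsIntegral G a :=
        Submodule.span_le (p := Subalgebra.toSubmodule (integralClosure G L)).2 (fun y hy => hy.1) ha
      obtain ⟨c, hc, hc'⟩ := iha hint
      refine ⟨c, hc, ?_⟩
      rw [show (⟨r • a, hra⟩ : (Nrm G L)) = r • (⟨a, hint⟩ : (Nrm G L)) from rfl, Submodule.Quotient.mk_smul, smul_comm,
        hc', smul_zero]
  obtain ⟨-, i, j, a, s, ha, hs, hs0, hts⟩ := htS
  set P := (Ideal.homogeneousCore 𝒢 p.asIdeal).toIdeal with hPdef
  haveI hPp : P.IsPrime := Ideal.IsPrime.homogeneousCore p.isPrime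
  have hann : ∀ c, c • (Submodule.Quotient.mk t : (Cok G L)) = 0 → c ∈ P := by
    intro c hc
    rw [← sum_support_decompose 𝒢 c]
    refine sum_mem fun d _ => Ideal.mem_homogeneousCore_of_homogeneous_of_mem ⟨d, SetLike.coe_mem _⟩ ?_
    by_contra hd
    refine ht _ hd ((smul_mk_eq_zero_iff L _ t).2 ?_)
    obtain ⟨g, hg⟩ := (smul_mk_eq_zero_iff L c t).1 hc
    exact exists_notMem_component 𝒢 L ha hs hs0 hts hg d
  have hPmax : P.IsMaximal := hmax ⟨P, hPp⟩ (Module.mem_support_iff'.2
    ⟨Submodule.Quotient.mk t, fun r hr h => hr (hann r h)⟩)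
  have h1 : P = p.asIdeal := hPmax.eq_of_le p.isPrime.ne_top (Ideal.toIdeal_homogeneousCore_le 𝒢 _)
  rw [← h1]
  exact hPmax.eq_of_le (isMaximal_irrelevant 𝒢 h0).ne_top
    (le_irrelevant 𝒢 h0 hPmax.ne_top (Ideal.homogeneousCore 𝒢 p.asIdeal).isHomogeneous)

theorem isIntegrallyClosed_atPrime_iff (p : Ideal G) [p.IsPrime] :
    IsIntegrallyClosed (Localization.AtPrime p) ↔ (⟨p, inferInstance⟩ : PrimeSpectrum G) ∉ Module.support G (Cok G L) := by
  let Lp := Localization.AtPrime p
  letI : Algebra Lp L := (IsLocalization.lift (M := p.primeCompl) (g := algebraMap G L) fun y => by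
    exact isUnit_iff_ne_zero.2 ((map_ne_zero_iff _ (IsFractionRing.injective G L)).2
      fun h => y.2 (show (y : G) ∈ p by rw [h]; exact p.zero_mem))).toAlgebra
  haveI : IsScalarTower G Lp L := IsScalarTower.of_algebraMap_eq fun x =>
    (IsLocalization.lift_eq (M := p.primeCompl) (fun y => isUnit_iff_ne_zero.2
      ((map_ne_zero_iff _ (IsFractionRing.injective G L)).2 fun h => y.2 (show (y : G) ∈ p by rw [h]; exact p.zero_mem))) x).symm
  haveI : IsDomain Lp := inferInstance
  haveI : IsFractionRing Lp L := IsFractionRing.isFractionRing_of_isDomain_of_isLocalization p.primeCompl Lp L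
  rw [Module.notMem_support_iff', isIntegrallyClosed_iff L]
  constructor
  · intro h w
    obtain ⟨w, rfl⟩ := Submodule.Quotient.mk_surjective _ w
    obtain ⟨y, hy⟩ := h (IsIntegral.tower_top (A := Lp) (w.2 : IsIntegral G (w : L)))
    obtain ⟨⟨g, s⟩, hgs⟩ := IsLocalization.surj p.primeCompl y
    refine ⟨s, s.2, (smul_mk_eq_zero_iff L _ w).2 ⟨g, ?_⟩⟩
    rw [← hy, IsScalarTower.algebraMap_apply G Lp L, IsScalarTower.algebraMap_apply G Lp L g, ← map_mul,
      mul_comm, hgs]
  · intro h z hz
    obtain ⟨m, hm⟩ := IsIntegral.exists_multiple_integral_of_isLocalization p.primeCompl z hz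
    obtain ⟨s, hs, hs'⟩ := h (Submodule.Quotient.mk ⟨m • z, hm⟩)
    obtain ⟨g, hg⟩ := (smul_mk_eq_zero_iff L _ _).1 hs'
    refine ⟨IsLocalization.mk' Lp g (⟨s, hs⟩ * m : p.primeCompl), ?_⟩
    have hne : algebraMap G L (s * (m : G)) ≠ 0 :=
      (map_ne_zero_iff _ (IsFractionRing.injective G L)).2 fun h0 =>
        (⟨s, hs⟩ * m : p.primeCompl).2 (by rw [Submonoid.coe_mul]; exact h0 ▸ p.zero_mem)
    refine mul_right_cancel₀ hne ?_
    rw [IsScalarTower.algebraMap_apply G Lp L (s * (m : G)), ← map_mul]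
    change algebraMap Lp L (IsLocalization.mk' Lp g (⟨s, hs⟩ * m : p.primeCompl) *
      algebraMap G Lp ((⟨s, hs⟩ * m : p.primeCompl) : G)) = _
    rw [IsLocalization.mk'_spec, ← IsScalarTower.algebraMap_apply, ← hg]
    rw [← IsScalarTower.algebraMap_apply, map_mul]
    change algebraMap G L s * ((m : G) • z) = _
    rw [Algebra.smul_def]
    ring

include h0 in
theorem normal_off_vertex_iff :
    (∀ (p : Ideal G) [p.IsPrime], ¬ m₊ ≤ p → IsIntegrallyClosed (Localization.AtPrime p)) ↔
      IsFiniteLength G (Cok G L) := by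
  haveI := finite_normalisation 𝒢 h0 L
  haveI : Module.Finite G (Cok G L) := Module.Finite.quotient G _
  constructor
  · intro h
    refine S12916.isFiniteLength_of_support fun p hp => ?_
    by_cases hle : m₊ ≤ p.asIdeal
    · exact (isMaximal_irrelevant 𝒢 h0).eq_of_le p.isPrime.ne_top hle ▸ isMaximal_irrelevant 𝒢 h0
    · exact absurd hp ((isIntegrallyClosed_atPrime_iff L p.asIdeal).1 (h p.asIdeal hle))
  · intro h p _ hle
    rw [isIntegrallyClosed_atPrime_iff L p]
    exact fun hp => hle (support_subset 𝒢 h0 L h hp).ge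

include h0 in
theorem isPowerTorsion_of_finiteLength (hfin : IsFiniteLength G (Cok G L)) : DRing.torsionSub m₊ (Cok G L) = ⊤ := by
  haveI := finite_normalisation 𝒢 h0 L
  haveI : Module.Finite G (Cok G L) := Module.Finite.quotient G _
  obtain ⟨e, he⟩ := LocCoh.pow_le_annihilator_of_support_subset (J := m₊) (F := (Cok G L))
    fun p hp => (support_subset 𝒢 h0 L hfin hp).ge
  exact eq_top_iff.2 fun w _ => ⟨e, fun a ha => Module.mem_annihilator.1 (he ha) w⟩

include h0 in
theorem two_le_idealDepth (hdim : 2 ≤ ringKrullDim G) : 2 ≤ _root_.LocCoh.idealDepth m₊ (Nrm G L) := by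
  classical
  haveI := finite_normalisation 𝒢 h0 L
  haveI := finiteType_graded 𝒢 h0
  haveI hmM := isMaximal_irrelevant 𝒢 h0
  haveI : IsNoetherianRing (Nrm G L) := IsNoetherianRing.of_finite G (Nrm G L)
  letI : Algebra k (Nrm G L) := ((algebraMap G (Nrm G L)).comp (algebraMap k G)).toAlgebra
  haveI : IsScalarTower k G (Nrm G L) := IsScalarTower.of_algebraMap_eq' rfl
  haveI : Algebra.FiniteType k (Nrm G L) := Algebra.FiniteType.trans (R := k) (S := G) inferInstance inferInstance
  haveI : IsIntegrallyClosed (Nrm G L) := integralClosure.isIntegrallyClosedOfFiniteExtension L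
  haveI : FaithfulSMul G (Nrm G L) := (faithfulSMul_iff_algebraMap_injective G (Nrm G L)).2 fun a b h =>
    IsFractionRing.injective G L (congrArg Subtype.val h)
  obtain ⟨n, hn, -, hmax⟩ := VarDim.exists_ringKrullDim_eq_trdeg k (Nrm G L)
  have hn2 : 2 ≤ n := by
    rw [VarDim.ringKrullDim_eq_of_isIntegral (R := G) (S := (Nrm G L))] at hn
    rw [hn] at hdim
    exact_mod_cast hdim
  have hbot : m₊ ≠ ⊥ := fun h => by
    haveI hb : (⊥ : Ideal G).IsMaximal := h ▸ hmM
    rw [ringKrullDim_eq_zero_of_isField (Ring.isField_iff_maximal_bot.2 hb)] at hdim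
    exact absurd hdim (by norm_num)
  obtain ⟨x, hx, hx0⟩ := Submodule.exists_mem_ne_zero_of_ne_bot hbot
  have hxN : algebraMap G (Nrm G L) x ≠ 0 := fun h => hx0 ((faithfulSMul_iff_algebraMap_injective G (Nrm G L)).1 inferInstance
    (h.trans (map_zero _).symm))
  have hreg : IsSMulRegular (Nrm G L) x := fun a b hab => by
    simp only [Algebra.smul_def] at hab
    exact mul_left_cancel₀ hxN hab
  rw [show (2 : ℕ∞) = 1 + 1 from rfl, ← Depth.idealDepth_quotSMulTop_add_one hx hreg]
  refine add_le_add (Depth.one_le_idealDepth_iff.2 fun q hq hle => ?_) le_rfl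
  obtain ⟨hqp, w, hw⟩ := isAssociatedPrime_iff.1 hq
  obtain ⟨w, rfl⟩ := Submodule.Quotient.mk_surjective _ w
  have hmemx : ∀ y : (Nrm G L), y ∈ x • (⊤ : Submodule G (Nrm G L)) ↔ y ∈ Ideal.span {algebraMap G (Nrm G L) x} := fun y => by
    rw [Submodule.mem_smul_pointwise_iff_exists, Ideal.mem_span_singleton']
    exact exists_congr fun z => by rw [Algebra.smul_def, mul_comm]; simp
  have hwx : (Ideal.Quotient.mk (Ideal.span {algebraMap G (Nrm G L) x}) w) ≠ 0 := fun h => hqp.ne_top (by
    rw [hw, Ideal.eq_top_iff_one, Submodule.mem_colon_singleton, one_smul, Submodule.mem_bot,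
      Submodule.Quotient.mk_eq_zero, hmemx]
    exact Ideal.Quotient.eq_zero_iff_mem.1 h)
  obtain ⟨P, hP, hPle⟩ := exists_le_isAssociatedPrime_of_isNoetherianRing (Nrm G L) _ hwx
  haveI := hP.isPrime
  have hqP : q ≤ P.comap (algebraMap G (Nrm G L)) := fun c hc => by
    rw [hw, Submodule.mem_colon_singleton, Submodule.mem_bot, ← Submodule.Quotient.mk_smul,
      Submodule.Quotient.mk_eq_zero, hmemx, Algebra.smul_def] at hc
    refine hPle ?_
    rw [Submodule.mem_colon_singleton, Submodule.mem_bot]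
    change Ideal.Quotient.mk _ (algebraMap G (Nrm G L) c * w) = 0
    exact Ideal.Quotient.eq_zero_iff_mem.2 hc
  have hPc : P.comap (algebraMap G (Nrm G L)) = m₊ :=
    (hmM.eq_of_le (Ideal.IsPrime.comap _).ne_top (hle.trans hqP)).symm
  have hPmax : P.IsMaximal := Ideal.isMaximal_of_isIntegral_of_isMaximal_comap P (hPc ▸ hmM)
  have h1 := ZClosLib.HeightOneHull.height_eq_one_of_mem_associatedPrimes hxN hP
  rw [hmax P hPmax] at h1
  have : n = 1 := by exact_mod_cast h1
  omega

include h0 in
theorem nonempty_equiv_H1 (hdim : 2 ≤ ringKrullDim G) (hfin : IsFiniteLength G (Cok G L)) :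
    Nonempty ((Cok G L) ≃ₗ[G] _root_.LocCoh.H m₊ 1 G) := by
  haveI := finite_normalisation 𝒢 h0 L
  haveI hmM := isMaximal_irrelevant 𝒢 h0
  have hne : m₊ • (⊤ : Submodule G (Nrm G L)) ≠ ⊤ := fun h => by
    obtain ⟨r, hr1, hr0⟩ := Submodule.exists_sub_one_mem_and_smul_eq_zero_of_fg_of_le_smul m₊
      (⊤ : Submodule G (Nrm G L)) Module.Finite.fg_top h.ge
    have h1 := congrArg Subtype.val (hr0 (1 : Nrm G L) trivial)
    have hr : r = 0 := IsFractionRing.injective G L (by simpa [Algebra.smul_def] using h1)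
    rw [hr, zero_sub] at hr1
    exact hmM.ne_top ((Ideal.eq_top_iff_one _).2 ((neg_mem_iff).1 hr1))
  obtain ⟨d, hd⟩ := ENat.ne_top_iff_exists.1 (Depth.idealDepth_lt_top (I := m₊) hne).ne
  have h2 : 2 ≤ d := by
    have := two_le_idealDepth 𝒢 h0 L hdim
    rw [← hd] at this
    exact_mod_cast this
  obtain ⟨hvan, -⟩ := LocCoh.H_of_idealDepth_eq m₊ d (Nrm G L) hd.symm
  haveI := hvan 0 (by omega)
  haveI := hvan 1 (by omega)
  have hf : Function.Injective (Algebra.linearMap G (Nrm G L)) := fun a b h =>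
    IsFractionRing.injective G L (congrArg Subtype.val h)
  have hfg : Function.Exact (Algebra.linearMap G (Nrm G L)) (LinearMap.range (Algebra.linearMap G (Nrm G L))).mkQ :=
    LinearMap.exact_map_mkQ_range _
  have hg := Submodule.mkQ_surjective (LinearMap.range (Algebra.linearMap G (Nrm G L)))
  let δ := GrLC.LocCohElt.δ m₊ 0 hf hfg hg
  have hinj : Function.Injective δ := (injective_iff_map_eq_zero _).2 fun y hy => by
    obtain ⟨z, rfl⟩ := ((GrLC.LocCohElt.exact_map_δ m₊ 0 hf hfg hg) y).1 hy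
    rw [Subsingleton.elim z 0, map_zero]
  have hsurj : Function.Surjective δ := fun y =>
    ((GrLC.LocCohElt.exact_δ_map m₊ 0 hf hfg hg) y).1 (Subsingleton.elim _ _)
  exact ⟨((LinearEquiv.ofTop _ (isPowerTorsion_of_finiteLength 𝒢 h0 L hfin)).symm.trans
    (LocCoh.H0Equiv m₊ (ModuleCat.of G (Cok G L))).symm).trans (LinearEquiv.ofBijective δ ⟨hinj, hsurj⟩)⟩

end Groth.Agent.FiltRees
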