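import Groth.Agent.GrBass.Shift
import Groth.Agent.GrBass.Dim
import Groth.Agent.GrLC.Summand
import Groth.Agent.FlatMor.CMFlat
import Groth.Agent.Depth.CM

/-!
# Cohen–Macaulayness and Serre's conditions for graded rings, tested at homogeneous primes

`isCohenMacaulayLocalRing_of_core`, `isCohenMacaulayRing_of_graded`, `hasSk_of_homogeneous`.
-/

set_option autoImplicit false
set_option linter.unusedSectionVars false
set_option linter.style.haveILetI false
universe u

open IsLocalRing

noncomputable section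

namespace Groth.Agent.FiltRees

variable {ι : Type} [AddCommGroup ι] [DecidableEq ι] [Module.Free ℤ ι] [Module.Finite ℤ ι]
variable {R : Type u} [CommRing R] [IsNoetherianRing R] (𝒜 : ι → AddSubgroup R) [GradedRing 𝒜]

/-- The homogeneous core of a prime is prime. -/
theorem core_isPrime (p : Ideal R) [p.IsPrime] : (Ideal.homogeneousCore 𝒜 p).toIdeal.IsPrime := by
  have hhom := (Ideal.homogeneousCore 𝒜 p).isHomogeneous
  have hPp := Ideal.toIdeal_homogeneousCore_le 𝒜 p
  refine GrLC.isPrime_of_homogeneous (𝒜 := 𝒜) hhom ?_ ?_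
  · exact fun h => ‹p.IsPrime›.ne_top (eq_top_iff.2 (h ▸ hPp))
  · intro i j x y hx hy hxy
    exact (Ideal.IsPrime.mem_or_mem ‹p.IsPrime› (hPp hxy)).imp
      (fun h => Ideal.mem_homogeneousCore_of_homogeneous_of_mem ⟨i, hx⟩ h)
      (fun h => Ideal.mem_homogeneousCore_of_homogeneous_of_mem ⟨j, hy⟩ h)

/-- depth and dimension at a prime are those at its core plus the same number. -/
theorem exists_shift (p : Ideal R) [p.IsPrime] [(Ideal.homogeneousCore 𝒜 p).toIdeal.IsPrime] :
    ∃ d : ℕ, LocCoh.depth (Localization.AtPrime p) (LocalizedModule p.primeCompl R) =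
        LocCoh.depth (Localization.AtPrime (Ideal.homogeneousCore 𝒜 p).toIdeal)
          (LocalizedModule (Ideal.homogeneousCore 𝒜 p).toIdeal.primeCompl R) + d ∧
      Module.supportDim (Localization.AtPrime p) (LocalizedModule p.primeCompl R) =
        Module.supportDim (Localization.AtPrime (Ideal.homogeneousCore 𝒜 p).toIdeal)
          (LocalizedModule (Ideal.homogeneousCore 𝒜 p).toIdeal.primeCompl R) + (d : WithBot ℕ∞) := by
  haveI : (p.map (Ideal.Quotient.mk (Ideal.homogeneousCore 𝒜 p).toIdeal)).IsPrime :=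
    Ideal.map_isPrime_of_surjective Ideal.Quotient.mk_surjective
      (by rw [Ideal.mk_ker]; exact Ideal.toIdeal_homogeneousCore_le 𝒜 p)
  obtain ⟨d, hd⟩ := ENat.ne_top_iff_exists.1
    (Ideal.height_ne_top (I := p.map (Ideal.Quotient.mk (Ideal.homogeneousCore 𝒜 p).toIdeal))
      (Ideal.IsPrime.ne_top inferInstance))
  refine ⟨d, GrBass.depth_shift 𝒜 R 𝒜 p d hd.symm, ?_⟩
  exact GrBass.supportDim_eq 𝒜 _ (Ideal.homogeneousCore 𝒜 p).isHomogeneous p
    (Ideal.toIdeal_homogeneousCore_le 𝒜 p)
    (fun g a ha hap => Ideal.mem_homogeneousCore_of_homogeneous_of_mem ⟨g, ha⟩ hap) R 𝒜 hd.symm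
    (Depth.localizedModuleSelfEquiv p.primeCompl).nontrivial

theorem isCMModule_iff (p : Ideal R) [p.IsPrime] :
    LocCoh.IsCohenMacaulayLocalRing (Localization.AtPrime p) ↔
      LocCoh.IsCohenMacaulayModule (Localization.AtPrime p) (LocalizedModule p.primeCompl R) := by
  rw [Depth.isCohenMacaulayLocalRing_iff,
    Depth.isCohenMacaulayModule_congr (Depth.localizedModuleSelfEquiv p.primeCompl)]

theorem isCohenMacaulayLocalRing_of_core (p : Ideal R) [p.IsPrime]
    [(Ideal.homogeneousCore 𝒜 p).toIdeal.IsPrime]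
    (h : LocCoh.IsCohenMacaulayLocalRing (Localization.AtPrime (Ideal.homogeneousCore 𝒜 p).toIdeal)) :
    LocCoh.IsCohenMacaulayLocalRing (Localization.AtPrime p) := by
  obtain ⟨d, h1, h2⟩ := exists_shift 𝒜 p
  rw [isCMModule_iff] at h ⊢
  unfold LocCoh.IsCohenMacaulayModule at h ⊢
  rw [h2, h, h1]
  rfl

/-- A prime contained in a prime at which the ring is Cohen–Macaulay. -/
theorem isCohenMacaulayLocalRing_of_le {P m : Ideal R} [P.IsPrime] [m.IsPrime] (hle : P ≤ m)
    (hm : LocCoh.IsCohenMacaulayLocalRing (Localization.AtPrime m)) :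
    LocCoh.IsCohenMacaulayLocalRing (Localization.AtPrime P) := by
  let Rm := Localization.AtPrime m
  have hdisj : Disjoint (m.primeCompl : Set R) (P : Set R) :=
    Set.disjoint_left.2 fun x hx hxP => hx (hle hxP)
  haveI hq : (P.map (algebraMap R Rm)).IsPrime :=
    IsLocalization.isPrime_of_isPrime_disjoint m.primeCompl Rm P inferInstance hdisj
  have hc : (P.map (algebraMap R Rm)).comap (algebraMap R Rm) = P :=
    IsLocalization.under_map_of_isPrime_disjoint m.primeCompl Rm inferInstance hdisj
  haveI := IsLocalization.isLocalization_isLocalization_atPrime_isLocalization m.primeCompl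
    (Localization.AtPrime (P.map (algebraMap R Rm))) (P.map (algebraMap R Rm))
  haveI : IsLocalization.AtPrime (Localization.AtPrime (P.map (algebraMap R Rm))) P := by
    simpa only [hc] using! this
  haveI := hm
  have hPm := Depth.isCohenMacaulayLocalRing_localization (R := Rm) (P.map (algebraMap R Rm))
  exact FlatMor.CMFlat.isCM_of_ringEquiv
    (IsLocalization.algEquiv P.primeCompl (Localization.AtPrime (P.map (algebraMap R Rm)))
      (Localization.AtPrime P)).toRingEquiv hPm

/-- Cohen–Macaulay at a prime containing every homogeneous prime ⇒ Cohen–Macaulay. -/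
theorem isCohenMacaulayRing_of_graded (m : Ideal R) [m.IsPrime]
    (hle : ∀ P : Ideal R, P.IsPrime → P.IsHomogeneous 𝒜 → P ≤ m)
    (hm : LocCoh.IsCohenMacaulayLocalRing (Localization.AtPrime m)) : LocCoh.IsCohenMacaulayRing R := by
  refine { isCohenMacaulayLocalRing_localization := fun p _ => ?_ }
  haveI := core_isPrime 𝒜 p
  exact isCohenMacaulayLocalRing_of_core 𝒜 p (isCohenMacaulayLocalRing_of_le
    (hle _ inferInstance (Ideal.homogeneousCore 𝒜 p).isHomogeneous) hm)

/-- `(S_k)` needs checking only at homogeneous primes. -/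
theorem hasSk_of_homogeneous (k : ℕ)
    (h : ∀ (P : Ideal R) [P.IsPrime], P.IsHomogeneous 𝒜 →
      min (k : WithBot ℕ∞) (Module.supportDim (Localization.AtPrime P) (LocalizedModule P.primeCompl R)) ≤
        ((LocCoh.depth (Localization.AtPrime P) (LocalizedModule P.primeCompl R) : ℕ∞) : WithBot ℕ∞)) :
    LocCoh.HasSk k R R := by
  intro p _
  haveI := core_isPrime 𝒜 p
  obtain ⟨d, h1, h2⟩ := exists_shift 𝒜 p
  have h3 := h _ (Ideal.homogeneousCore 𝒜 p).isHomogeneous
  rw [h1, h2, WithBot.coe_add]
  refine le_trans ?_ (add_le_add h3 le_rfl)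
  rw [← min_add_add_right]
  exact min_le_min (le_add_of_nonneg_right (WithBot.coe_le_coe.2 zero_le)) le_rfl

end Groth.Agent.FiltRees
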