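import Groth.Agent.FiltRees.Basic
import Groth.Agent.FiltRees.DepthDim
import Groth.Agent.GeomFieldLib.CMTensor
import Mathlib.RingTheory.TensorProduct.MonoidAlgebra
import Mathlib.RingTheory.RegularLocalRing.Polynomial
import Mathlib.RingTheory.Flat.FaithfullyFlat.Basic

/-!
# The locus `u ≠ 0` of the extended Rees algebra

`A[T;T⁻¹]` is `R'[1/u]`; its local rings have the depth and dimension of those of `A` plus the same number.
-/

set_option autoImplicit false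
set_option linter.style.haveILetI false
set_option linter.unusedSectionVars false
universe u

open LaurentPolynomial IsLocalRing
open scoped TensorProduct

noncomputable section

namespace Groth.Agent.FiltRees

theorem cm_laurent_field (k : Type u) [Field k] (Q : Ideal k[T;T⁻¹]) [Q.IsPrime] :
    LocCoh.IsCohenMacaulayLocalRing (Localization.AtPrime Q) := by
  haveI : IsRegularLocalRing (Localization.AtPrime (Q.comap (algebraMap (Polynomial k) k[T;T⁻¹]))) :=
    isRegularRing_iff.mp inferInstance _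
  haveI : IsLocalization.AtPrime (Localization.AtPrime Q) (Q.comap (algebraMap (Polynomial k) k[T;T⁻¹])) :=
    IsLocalization.isLocalization_isLocalization_atPrime_isLocalization
      (M := Submonoid.powers (Polynomial.X : Polynomial k)) (Localization.AtPrime Q) Q
  exact FlatMor.CMFlat.isCM_of_ringEquiv
    (IsLocalization.algEquiv (Q.comap (algebraMap (Polynomial k) k[T;T⁻¹])).primeCompl
      (Localization.AtPrime (Q.comap (algebraMap (Polynomial k) k[T;T⁻¹]))) (Localization.AtPrime Q)).toRingEquiv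
    Depth.isCohenMacaulayLocalRing_of_isRegularLocalRing

variable {A : Type u} [CommRing A] [IsNoetherianRing A]

theorem isNoetherianRing_laurent (A : Type u) [CommRing A] [IsNoetherianRing A] :
    IsNoetherianRing A[T;T⁻¹] :=
  IsLocalization.isNoetherianRing (Submonoid.powers (Polynomial.X : Polynomial A)) _ inferInstance

theorem cm_laurent_fiber (p : Ideal A) [p.IsPrime] : LocCoh.IsCohenMacaulayRing (p.Fiber A[T;T⁻¹]) := by
  refine GeomFieldLib.isCohenMacaulayRing_of_ringEquiv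
    (AddMonoidAlgebra.scalarTensorEquiv A p.ResidueField (M := ℤ)).toRingEquiv.symm ?_
  haveI : IsNoetherianRing p.ResidueField[T;T⁻¹] := isNoetherianRing_laurent _
  exact { isCohenMacaulayLocalRing_localization := fun Q _ => cm_laurent_field _ Q }

/-- Depth and dimension at a point of `A[T;T⁻¹]`. -/
theorem exists_dp_ds_laurent (Q : Ideal A[T;T⁻¹]) [Q.IsPrime] :
    ∃ c : ℕ∞, dp Q = dp (Q.comap (algebraMap A A[T;T⁻¹])) + c ∧
      ds Q = ds (Q.comap (algebraMap A A[T;T⁻¹])) + ((c : ℕ∞) : WithBot ℕ∞) := by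
  haveI := isNoetherianRing_laurent A
  obtain ⟨h1, h2⟩ := EGA4Lib.depth_supportDim_stalk_ring A Q
  have hc := (EGA4Lib.forall_isCohenMacaulayRing_fiber_iff A).1 (fun p _ => cm_laurent_fiber p) Q
  rw [(localizedModule_eq Q).1, (localizedModule_eq _).1] at h1
  rw [(localizedModule_eq Q).2, (localizedModule_eq _).2, hc] at h2
  exact ⟨_, h1, h2⟩

theorem exists_laurent_over (q : Ideal A) [q.IsPrime] :
    ∃ Q : PrimeSpectrum A[T;T⁻¹], Q.asIdeal.comap (algebraMap A A[T;T⁻¹]) = q ∧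
      dp Q.asIdeal = dp q ∧ ds Q.asIdeal = ds q := by
  haveI := isNoetherianRing_laurent A
  haveI : Nontrivial A := ⟨⟨0, 1, fun h => ‹q.IsPrime›.ne_top ((Ideal.eq_top_iff_one q).2 (h ▸ q.zero_mem))⟩⟩
  obtain ⟨r, hr, hs0, hd0⟩ := EGA4Lib.exists_minimal_over A (B := A[T;T⁻¹]) q
    ((PrimeSpectrum.comap_surjective_of_faithfullyFlat (A := A) (B := A[T;T⁻¹]) ⟨q, ‹_›⟩).imp
      fun x hx => congrArg PrimeSpectrum.asIdeal hx)
  subst hr
  obtain ⟨h1, h2⟩ := EGA4Lib.depth_supportDim_stalk_ring A r.asIdeal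
  rw [(localizedModule_eq _).1, (localizedModule_eq _).1, hd0, add_zero] at h1
  rw [(localizedModule_eq _).2, (localizedModule_eq _).2, hs0, add_zero] at h2
  exact ⟨r, rfl, h1, h2⟩

variable (𝓕 : FiltBl.IdealFiltration A)

theorem exists_mul_u_pow (f : A[T;T⁻¹]) : ∃ N : ℕ, f * T (-(N : ℤ)) ∈ 𝓕.extRees := by
  induction f using LaurentPolynomial.induction_on' with
  | add f g hf hg =>
    obtain ⟨N, hN⟩ := hf
    obtain ⟨M, hM⟩ := hg
    have hT : ∀ n : ℕ, (T (-(n : ℤ)) : A[T;T⁻¹]) ∈ 𝓕.extRees := fun n => by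
      have h := pow_mem (𝓕.u).2 n
      rwa [coe_u, T_pow, mul_neg, mul_one] at h
    refine ⟨N + M, ?_⟩
    have e : (f + g) * T (-((N + M : ℕ) : ℤ)) = f * T (-(N : ℤ)) * T (-(M : ℤ)) + g * T (-(M : ℤ)) * T (-(N : ℤ)) := by
      rw [show (-((N + M : ℕ) : ℤ)) = -(N : ℤ) + -(M : ℤ) by omega, T_add]
      ring
    rw [e]
    exact add_mem (mul_mem hN (hT M)) (mul_mem hM (hT N))
  | C_mul_T n a =>
    refine ⟨n.toNat, ?_⟩
    rw [mul_assoc, ← T_add]
    have h : a ∈ 𝓕.F (n + -(n.toNat : ℤ)).toNat := by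
      rw [show (n + -(n.toNat : ℤ)).toNat = 0 by omega, 𝓕.zero_eq]; trivial
    exact (mon 𝓕 _ a h).2

instance isLocalization_u : IsLocalization (Submonoid.powers 𝓕.u) A[T;T⁻¹] := by
  refine (isLocalization_iff _ _).2 ⟨?_, fun f => ?_, fun {x y} h => ?_⟩
  · rintro ⟨-, k, rfl⟩
    change IsUnit ((𝓕.u ^ k : 𝓕.extRees) : A[T;T⁻¹])
    rw [SubmonoidClass.coe_pow, coe_u]
    exact (isUnit_T (-1)).pow k
  · obtain ⟨N, hN⟩ := exists_mul_u_pow 𝓕 f
    refine ⟨⟨⟨_, hN⟩, ⟨𝓕.u ^ N, N, rfl⟩⟩, ?_⟩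
    change f * ((𝓕.u ^ N : 𝓕.extRees) : A[T;T⁻¹]) = f * T (-(N : ℤ))
    rw [SubmonoidClass.coe_pow, coe_u, T_pow, mul_neg, mul_one]
  · exact ⟨1, by rw [Subtype.ext h]⟩

/-- A prime avoiding `u` extends to a prime of `A[T;T⁻¹]` with the same local ring. -/
theorem exists_laurent_prime (P : Ideal 𝓕.extRees) [P.IsPrime] (hu : 𝓕.u ∉ P) :
    ∃ Q : PrimeSpectrum A[T;T⁻¹], Q.asIdeal.comap (algebraMap 𝓕.extRees A[T;T⁻¹]) = P ∧
      dp P = dp Q.asIdeal ∧ ds P = ds Q.asIdeal := by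
  have hdisj : Disjoint (Submonoid.powers 𝓕.u : Set 𝓕.extRees) (P : Set 𝓕.extRees) :=
    Set.disjoint_left.2 fun y ⟨k, hk⟩ hy => hu (‹P.IsPrime›.mem_of_pow_mem k (by simp only at hk; rwa [hk]))
  haveI := IsLocalization.isPrime_of_isPrime_disjoint (Submonoid.powers 𝓕.u) A[T;T⁻¹] P inferInstance hdisj
  have hc : (P.map (algebraMap 𝓕.extRees A[T;T⁻¹])).comap (algebraMap 𝓕.extRees A[T;T⁻¹]) = P :=
    IsLocalization.under_map_of_isPrime_disjoint (Submonoid.powers 𝓕.u) A[T;T⁻¹] inferInstance hdisj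
  obtain ⟨h1, h2⟩ := dp_ds_comap A[T;T⁻¹] (Submonoid.powers 𝓕.u) (P.map (algebraMap 𝓕.extRees A[T;T⁻¹]))
  exact ⟨⟨P.map (algebraMap 𝓕.extRees A[T;T⁻¹]), inferInstance⟩, hc,
    (iff_of_eq_prime hc (fun J _ => dp J = dp (P.map (algebraMap 𝓕.extRees A[T;T⁻¹])))).1 h1,
    (iff_of_eq_prime hc (fun J _ => ds J = ds (P.map (algebraMap 𝓕.extRees A[T;T⁻¹])))).1 h2⟩

theorem u_notMem_comap (Q : Ideal A[T;T⁻¹]) [Q.IsPrime] :
    𝓕.u ∉ Q.comap (algebraMap 𝓕.extRees A[T;T⁻¹]) := fun h =>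
  ‹Q.IsPrime›.ne_top (Q.eq_top_of_isUnit_mem h (isUnit_T (-1)))

end Groth.Agent.FiltRees
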