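import Groth.Agent.FiltRees.ProjStalk
import Mathlib.RingTheory.IntegralClosure.IntegrallyClosed

/-!
# The degree zero part of a normal localisation is normal
-/

set_option autoImplicit false
set_option linter.style.haveILetI false
universe u

open HomogeneousLocalization

noncomputable section

namespace Groth.Agent.FiltRees

variable {A : Type u} [CommRing A] {𝒜 : ℕ → AddSubgroup A} [GradedRing 𝒜]
variable {P : Ideal A} [P.IsPrime] (hP : P.IsHomogeneous 𝒜)

local notation "L₀" => HomogeneousLocalization.AtPrime 𝒜 P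
local notation "AP" => Localization.AtPrime P

include hP in
theorem isIntegrallyClosed_deg0 (hdom : IsDomain AP) (hic : IsIntegrallyClosed AP) :
    IsDomain L₀ ∧ IsIntegrallyClosed L₀ := by
  have hinj : Function.Injective (algebraMap L₀ AP) := val_injective _
  haveI : IsDomain L₀ := hinj.isDomain (algebraMap L₀ AP)
  refine ⟨inferInstance, (isIntegrallyClosed_iff (FractionRing L₀)).2 fun {z} hz => ?_⟩
  obtain ⟨a, b, hb, rfl⟩ := IsFractionRing.div_surjective L₀ z
  let g : FractionRing L₀ →+* FractionRing AP := IsFractionRing.lift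
    (g := (algebraMap AP (FractionRing AP)).comp (algebraMap L₀ AP))
    ((IsFractionRing.injective AP (FractionRing AP)).comp hinj)
  have hg : ∀ y : L₀, g (algebraMap L₀ (FractionRing L₀) y) =
      algebraMap AP (FractionRing AP) (algebraMap L₀ AP y) := fun y => IsFractionRing.lift_algebraMap _ y
  have hint : IsIntegral AP (g (algebraMap L₀ (FractionRing L₀) a / algebraMap L₀ (FractionRing L₀) b)) := by
    obtain ⟨p, hp, hpz⟩ := hz
    refine ⟨p.map (algebraMap L₀ AP), hp.map _, ?_⟩
    rw [Polynomial.eval₂_map, ← RingHom.map_zero g, ← hpz, Polynomial.hom_eval₂]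
    congr 1
    exact RingHom.ext fun y => (hg y).symm
  obtain ⟨c, hc⟩ := (isIntegrallyClosed_iff (FractionRing AP)).1 hic hint
  have hb0 : algebraMap L₀ AP b ≠ 0 := fun h =>
    nonZeroDivisors.ne_zero hb (hinj (h.trans (map_zero _).symm))
  rw [map_div₀, hg, hg, eq_div_iff ((map_ne_zero_iff _ (IsFractionRing.injective AP (FractionRing AP))).2 hb0),
    ← map_mul] at hc
  have hmem : a ∈ Ideal.span {b} := by
    refine mem_of_mem_map hP _ ?_
    change algebraMap L₀ AP a ∈ _
    rw [← IsFractionRing.injective AP (FractionRing AP) hc, Ideal.map_span, Set.image_singleton]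
    exact Ideal.mem_span_singleton'.2 ⟨c, rfl⟩
  obtain ⟨w, hw⟩ := Ideal.mem_span_singleton'.1 hmem
  refine ⟨w, ?_⟩
  rw [← hw, map_mul, mul_div_assoc, div_self, mul_one]
  exact (map_ne_zero_iff _ (IsFractionRing.injective L₀ (FractionRing L₀))).2 (nonZeroDivisors.ne_zero hb)

end Groth.Agent.FiltRees
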