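import Groth.Agent.S5758
import Groth.Agent.Nagata.Normalization
import Groth.Agent.RegLoc.SupportDim
import Groth.Agent.Depth.CM
import Groth.Agent.GeomFieldLib.CMTensor
import Mathlib.RingTheory.GradedAlgebra.HomogeneousLocalization
import Mathlib.RingTheory.GradedAlgebra.Radical
import Mathlib.RingTheory.GradedAlgebra.FiniteType
import Mathlib.AlgebraicGeometry.ProjectiveSpectrum.Basic

/-!
# The degree zero part of the localisation at a relevant homogeneous prime

Ideals contract back (`mem_of_mem_map`); spectra compare through homogeneous cores; consequences for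
Cohen–Macaulayness and `(S₁)`.
-/

set_option autoImplicit false
set_option linter.style.haveILetI false
set_option linter.unusedSectionVars false
universe u

open HomogeneousLocalization IsLocalRing DirectSum

noncomputable section

namespace Groth.Agent.FiltRees

variable {A : Type u} [CommRing A] {𝒜 : ℕ → AddSubgroup A} [GradedRing 𝒜]
variable {P : Ideal A} [P.IsPrime]

local notation "L₀" => HomogeneousLocalization.AtPrime 𝒜 P
local notation "AP" => Localization.AtPrime P

theorem coe_decompose_mul {a b : A} {i : ℕ} (ha : a ∈ 𝒜 i) (n : ℕ) :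
    (decompose 𝒜 (a * b) (i + n) : A) = a * (decompose 𝒜 b n : A) := by
  rw [coe_decompose_mul_add_of_left_mem (𝒜 := 𝒜) ha]

omit [GradedRing 𝒜] in
theorem exists_frac [GradedRing 𝒜] (z : L₀) : ∃ (e : ℕ) (a s : A), a ∈ 𝒜 e ∧ s ∈ 𝒜 e ∧
    s ∉ P ∧ z.val * algebraMap A AP s = algebraMap A AP a := by
  refine ⟨z.deg, z.num, z.den, z.num_mem_deg, z.den_mem_deg, z.den_mem, ?_⟩
  rw [z.eq_num_div_den, Localization.mk_eq_mk']
  exact IsLocalization.mk'_spec AP z.num (⟨z.den, z.den_mem⟩ : P.primeCompl)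

/-- `n / D` in degree zero. -/
def frac {e : ℕ} (a s : A) (ha : a ∈ 𝒜 e) (hs : s ∈ 𝒜 e) (hsP : s ∉ P) : L₀ :=
  .mk ⟨e, ⟨a, ha⟩, ⟨s, hs⟩, hsP⟩

theorem val_frac {e : ℕ} (a s : A) (ha : a ∈ 𝒜 e) (hs : s ∈ 𝒜 e) (hsP : s ∉ P) :
    (frac (P := P) a s ha hs hsP).val * algebraMap A AP s = algebraMap A AP a := by
  rw [frac, val_mk, Localization.mk_eq_mk']
  exact IsLocalization.mk'_spec' AP a (⟨s, hsP⟩ : P.primeCompl) ▸ by rw [mul_comm]

variable (hP : P.IsHomogeneous 𝒜)

include hP in
/-- `I A_P ∩ (A_P)₀ = I`. -/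
theorem mem_of_mem_map (I : Ideal L₀) {z : L₀} (hz : z.val ∈ I.map (algebraMap L₀ AP)) : z ∈ I := by
  classical
  rw [Ideal.map, Ideal.span, Submodule.mem_span_image_iff_exists_fun (R := AP)] at hz
  obtain ⟨t, ht, c, hc⟩ := hz
  obtain ⟨b, hb⟩ := IsLocalization.exist_integer_multiples P.primeCompl Finset.univ c
  choose nd fd Dd hnd hDd hDP hfr using fun i : (↥t) => exists_frac (𝒜 := 𝒜) (i : L₀)
  obtain ⟨ez, az, sz, haz, hsz, hszP, hfz⟩ := exists_frac (𝒜 := 𝒜) z
  choose r hr using fun i : (↥t) => hb i (Finset.mem_univ i)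
  -- common denominator
  let D : A := ∏ i, Dd i
  let eD : ℕ := ∑ i, nd i
  let D' : (↥t) → A := fun i => ∏ j ∈ Finset.univ.erase i, Dd j
  have hD : D ∈ 𝒜 eD := SetLike.prod_mem_graded 𝒜 _ _ fun i _ => hDd i
  have hD' : ∀ i, D' i ∈ 𝒜 (∑ j ∈ Finset.univ.erase i, nd j) := fun i =>
    SetLike.prod_mem_graded 𝒜 _ _ fun j _ => hDd j
  have hDP' : D ∉ P := fun h => by
    obtain ⟨i, -, hi⟩ := Ideal.IsPrime.prod_mem_iff.1 h
    exact hDP i hi
  have key : algebraMap A AP ((b : A) * az * D) =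
      algebraMap A AP (sz * ∑ i, fd i * D' i * r i) := by
    simp only [map_mul, map_sum]
    rw [← hfz, ← hc, Finset.sum_mul, Finset.mul_sum, Finset.sum_mul, Finset.mul_sum]
    refine Finset.sum_congr rfl fun i _ => ?_
    rw [hr i, ← hfr i, smul_eq_mul, Algebra.smul_def,
      show D = Dd i * D' i from (Finset.mul_prod_erase Finset.univ Dd (Finset.mem_univ i)).symm, map_mul]
    change _ = _ * ((i : L₀).val * _ * algebraMap A AP (D' i) * _)
    rw [show (algebraMap L₀ AP (i : L₀)) = (i : L₀).val from rfl]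
    ring
  obtain ⟨v, hv⟩ := (IsLocalization.eq_iff_exists P.primeCompl AP).1 key
  obtain ⟨e, he⟩ : ∃ e, (decompose 𝒜 ((v : A) * b) e : A) ∉ P := by
    by_contra h
    push Not at h
    exact (v * b : P.primeCompl).2 (Ideal.mul_unit_mem_iff_mem P isUnit_one |>.1 (by
      rw [mul_one, Submonoid.coe_mul, ← DirectSum.sum_support_decompose 𝒜 ((v : A) * b)]
      exact sum_mem fun j _ => h j))
  -- homogeneous components of degree `ez + eD + e`
  have h1 := congrArg (fun a => (decompose 𝒜 a ((ez + eD) + e) : A)) hv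
  simp only at h1
  rw [show (v : A) * ((b : A) * az * D) = (az * D) * ((v : A) * b) by ring,
    coe_decompose_mul (SetLike.mul_mem_graded haz hD) e,
    show (v : A) * (sz * ∑ i, fd i * D' i * r i) = ∑ i, (sz * (fd i * D' i)) * ((v : A) * r i) by
      rw [Finset.mul_sum, Finset.mul_sum]; exact Finset.sum_congr rfl fun i _ => by ring,
    DirectSum.decompose_sum, DFinsupp.finsetSum_apply, AddSubmonoidClass.coe_finsetSum] at h1
  have hdeg : ∀ i, nd i + ∑ j ∈ Finset.univ.erase i, nd j = eD := fun i =>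
    Finset.add_sum_erase Finset.univ nd (Finset.mem_univ i)
  have h2 : ∀ i, (decompose 𝒜 ((sz * (fd i * D' i)) * ((v : A) * r i)) ((ez + eD) + e) : A) =
      (sz * (fd i * D' i)) * (decompose 𝒜 ((v : A) * r i) e : A) := fun i => by
    have hm : sz * (fd i * D' i) ∈ 𝒜 (ez + eD) := by
      rw [← hdeg i]
      exact SetLike.mul_mem_graded hsz (SetLike.mul_mem_graded (hnd i) (hD' i))
    exact coe_decompose_mul hm e
  simp only [h2] at h1
  let w : (↥t) → L₀ := fun i =>
    frac (decompose 𝒜 ((v : A) * r i) e : A) (decompose 𝒜 ((v : A) * b) e : A) (SetLike.coe_mem _)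
      (SetLike.coe_mem _) he
  have hzeq : z = ∑ i, w i * (i : L₀) := by
    refine val_injective _ ?_
    have hu : IsUnit (algebraMap A AP (sz * D * (decompose 𝒜 ((v : A) * b) e : A))) :=
      IsLocalization.map_units AP (⟨_, fun h => (Ideal.IsPrime.mem_or_mem ‹P.IsPrime› h).elim
        (fun h => (Ideal.IsPrime.mem_or_mem ‹P.IsPrime› h).elim hszP hDP') he⟩ : P.primeCompl)
    refine hu.mul_right_cancel ?_
    rw [show ((∑ i, w i * (i : L₀)).val) = algebraMap L₀ AP (∑ i, w i * (i : L₀)) from rfl, map_sum,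
      Finset.sum_mul, map_mul, map_mul, ← mul_assoc, ← mul_assoc, hfz, ← map_mul, ← map_mul, h1, map_sum]
    refine Finset.sum_congr rfl fun i _ => ?_
    rw [map_mul (algebraMap L₀ AP)]
    change _ = (w i).val * (i : L₀).val * _
    simp only [map_mul (algebraMap A AP)]
    rw [← val_frac (P := P) (decompose 𝒜 ((v : A) * r i) e : A) (decompose 𝒜 ((v : A) * b) e : A)
      (SetLike.coe_mem _) (SetLike.coe_mem _) he, ← hfr i,
      show D = Dd i * D' i from (Finset.mul_prod_erase Finset.univ Dd (Finset.mem_univ i)).symm, map_mul (algebraMap A AP)]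
    ring
  rw [hzeq]
  exact sum_mem fun i _ => I.mul_mem_left _ (ht i.2)

include hP in
theorem comap_map_eq (I : Ideal L₀) : (I.map (algebraMap L₀ AP)).comap (algebraMap L₀ AP) = I :=
  le_antisymm (fun _ hz => mem_of_mem_map hP I hz) Ideal.le_comap_map

include hP in
theorem isNoetherianRing_deg0 [IsNoetherianRing A] : IsNoetherianRing L₀ := by
  rw [isNoetherianRing_iff, ← monotone_stabilizes_iff_noetherian]
  intro g
  haveI : IsNoetherianRing AP := IsLocalization.isNoetherianRing P.primeCompl _ inferInstance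
  obtain ⟨n, hn⟩ := monotone_stabilizes_iff_noetherian.mpr (isNoetherianRing_iff.1 ‹IsNoetherianRing AP›)
    ⟨fun k => Ideal.map (algebraMap L₀ AP) (g k), fun a b h => Ideal.map_mono (g.mono h)⟩
  refine ⟨n, fun m hm => ?_⟩
  rw [← comap_map_eq hP (g n), ← comap_map_eq hP (g m)]
  exact congrArg (Ideal.comap (algebraMap L₀ AP)) (hn m hm)

section Relevant

variable {f : A} {d : ℕ} (hf : f ∈ 𝒜 d) (hd : 0 < d) (hfP : f ∉ P)

include hf hfP in
/-- `a^d / f^j` for `a` of degree `j`. -/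
theorem exists_hom {a : A} {j : ℕ} (ha : a ∈ 𝒜 j) :
    ∃ h : L₀, h.val * algebraMap A AP (f ^ j) = algebraMap A AP (a ^ d) := by
  have h1 : a ^ d ∈ 𝒜 (d • j) := SetLike.pow_mem_graded d ha
  have h2 : f ^ j ∈ 𝒜 (d • j) := by
    rw [show d • j = j • d by rw [smul_eq_mul, smul_eq_mul, mul_comm]]
    exact SetLike.pow_mem_graded j hf
  exact ⟨frac _ _ h1 h2 fun h => hfP (‹P.IsPrime›.mem_of_pow_mem _ h), val_frac _ _ _ _ _⟩

/-- The homogeneous prime of `A` attached to a prime of the degree zero part. -/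
def liftPrime (Q : Ideal AP) : Ideal A :=
  (Ideal.homogeneousCore 𝒜 (Q.comap (algebraMap A AP))).toIdeal

include hd in
theorem mem_iff_hom_mem {a : A} {j : ℕ} {h : L₀} (hh : h.val * algebraMap A AP (f ^ j) = algebraMap A AP (a ^ d))
    (hfP : f ∉ P) (Q : Ideal AP) [Q.IsPrime] :
    a ∈ Q.comap (algebraMap A AP) ↔ h ∈ Q.comap (algebraMap L₀ AP) := by
  have hu : IsUnit (algebraMap A AP (f ^ j)) :=
    IsLocalization.map_units AP (⟨f ^ j, fun h => hfP (‹P.IsPrime›.mem_of_pow_mem _ h)⟩ : P.primeCompl)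
  change algebraMap A AP a ∈ Q ↔ h.val ∈ Q
  rw [← Q.mul_unit_mem_iff_mem hu (x := h.val), hh, map_pow]
  exact ⟨fun h => Q.pow_mem_of_mem h d hd, fun h => ‹Q.IsPrime›.mem_of_pow_mem d h⟩

theorem mem_of_component {C : Ideal A} {x : A} (h : ∀ j, (decompose 𝒜 x j : A) ∈ C) : x ∈ C := by
  classical
  rw [← DirectSum.sum_support_decompose 𝒜 x]
  exact sum_mem fun j _ => h j

include hf hd hfP in
theorem liftPrime_mono (Q Q' : Ideal AP) [Q.IsPrime] [Q'.IsPrime]
    (h : Q.comap (algebraMap L₀ AP) ≤ Q'.comap (algebraMap L₀ AP)) :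
    liftPrime (𝒜 := 𝒜) Q ≤ liftPrime (𝒜 := 𝒜) Q' := by
  intro x hx
  refine mem_of_component (𝒜 := 𝒜) fun j => ?_
  have hxj := (Ideal.homogeneousCore 𝒜 (Q.comap (algebraMap A AP))).isHomogeneous j hx
  obtain ⟨g, hg⟩ := exists_hom hf hfP (SetLike.coe_mem (decompose 𝒜 x j))
  refine Ideal.mem_homogeneousCore_of_homogeneous_of_mem ⟨j, SetLike.coe_mem _⟩ ?_
  rw [mem_iff_hom_mem hd hg hfP Q']
  exact h ((mem_iff_hom_mem hd hg hfP Q).1 (Ideal.toIdeal_homogeneousCore_le 𝒜 _ hxj))

theorem mem_comap_iff_mem_liftPrime (Q : Ideal AP) [Q.IsPrime] (z : L₀) {e : ℕ} {a s : A} (ha : a ∈ 𝒜 e)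
    (hsP : s ∉ P) (hz : z.val * algebraMap A AP s = algebraMap A AP a) :
    z ∈ Q.comap (algebraMap L₀ AP) ↔ a ∈ liftPrime (𝒜 := 𝒜) Q := by
  have hu : IsUnit (algebraMap A AP s) := IsLocalization.map_units AP (⟨s, hsP⟩ : P.primeCompl)
  change z.val ∈ Q ↔ _
  rw [← Q.mul_unit_mem_iff_mem hu (x := z.val), hz]
  exact ⟨fun h => Ideal.mem_homogeneousCore_of_homogeneous_of_mem ⟨e, ha⟩ h,
    fun h => Ideal.toIdeal_homogeneousCore_le 𝒜 (Q.comap (algebraMap A AP)) h⟩

theorem liftPrime_le (Q : Ideal AP) [Q.IsPrime] : liftPrime (𝒜 := 𝒜) Q ≤ P :=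
  (Ideal.toIdeal_homogeneousCore_le 𝒜 _).trans
    ((Ideal.comap_mono (IsLocalRing.le_maximalIdeal ‹Q.IsPrime›.ne_top)).trans
      (Localization.AtPrime.under_maximalIdeal (I := P)).le)

include hP in
theorem exists_over (q : Ideal L₀) [q.IsPrime] :
    ∃ Q : PrimeSpectrum AP, Q.asIdeal.comap (algebraMap L₀ AP) = q := by
  obtain ⟨Q, hQ, h⟩ := (Ideal.comap_map_eq_self_iff_of_isPrime q).1 (comap_map_eq hP q)
  exact ⟨⟨Q, hQ⟩, h⟩

include hP hf hd hfP in
theorem ringKrullDim_deg0_le : ringKrullDim L₀ ≤ ringKrullDim AP := by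
  choose Q hQ using fun q : PrimeSpectrum L₀ => exists_over hP q.asIdeal
  have hpr : ∀ q, (liftPrime (𝒜 := 𝒜) (Q q).asIdeal).IsPrime := fun q =>
    Ideal.IsPrime.homogeneousCore inferInstance
  have hdisj : ∀ q, Disjoint (P.primeCompl : Set A) (liftPrime (𝒜 := 𝒜) (Q q).asIdeal : Set A) := fun q =>
    Set.disjoint_left.2 fun x hx hx' => hx (liftPrime_le (Q q).asIdeal hx')
  let g : PrimeSpectrum L₀ → PrimeSpectrum AP := fun q =>
    ⟨(liftPrime (𝒜 := 𝒜) (Q q).asIdeal).map (algebraMap A AP),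
      IsLocalization.isPrime_of_isPrime_disjoint P.primeCompl AP _ (hpr q) (hdisj q)⟩
  refine Order.krullDim_le_of_strictMono g fun q q' hlt => lt_of_le_of_ne ?_ fun heq => hlt.ne ?_
  · refine Ideal.map_mono (liftPrime_mono hf hd hfP _ _ ?_)
    rw [hQ, hQ]
    exact hlt.le
  · have h1 : liftPrime (𝒜 := 𝒜) (Q q).asIdeal = liftPrime (𝒜 := 𝒜) (Q q').asIdeal := by
      rw [← IsLocalization.under_map_of_isPrime_disjoint P.primeCompl AP (hpr q) (hdisj q),
        ← IsLocalization.under_map_of_isPrime_disjoint P.primeCompl AP (hpr q') (hdisj q')]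
      exact congrArg (fun T : PrimeSpectrum AP => T.asIdeal.comap (algebraMap A AP)) heq
    refine PrimeSpectrum.ext (Ideal.ext fun z => ?_)
    obtain ⟨e, a, s, ha, -, hsP, hz⟩ := exists_frac (𝒜 := 𝒜) z
    rw [← hQ q, ← hQ q', mem_comap_iff_mem_liftPrime (Q q).asIdeal z ha hsP hz,
      mem_comap_iff_mem_liftPrime (Q q').asIdeal z ha hsP hz, h1]

include hP hf hd hfP in
theorem maximalIdeal_le_radical_map :
    maximalIdeal AP ≤ ((maximalIdeal L₀).map (algebraMap L₀ AP)).radical := by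
  rw [← Localization.AtPrime.map_eq_maximalIdeal, Ideal.map_le_iff_le_comap]
  intro x hx
  refine mem_of_component (𝒜 := 𝒜) fun j => ?_
  have hxj : (decompose 𝒜 x j : A) ∈ P := hP j hx
  obtain ⟨g, hg⟩ := exists_hom hf hfP (SetLike.coe_mem (decompose 𝒜 x j))
  have hm : g ∈ maximalIdeal L₀ := by
    refine IsLocalRing.le_maximalIdeal (Ideal.IsPrime.ne_top
      (inferInstance : ((maximalIdeal AP).comap (algebraMap L₀ AP)).IsPrime)) ?_
    rw [← mem_iff_hom_mem hd hg hfP (maximalIdeal AP), Ideal.mem_comap,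
      IsLocalization.AtPrime.to_map_mem_maximal_iff AP P]
    exact hxj
  refine ⟨d, ?_⟩
  rw [← map_pow, ← hg]
  exact Ideal.mul_mem_right _ _ (Ideal.mem_map_of_mem (algebraMap L₀ AP) hm)

include hP hf hd hfP in
theorem isCohenMacaulayLocalRing_deg0 [IsNoetherianRing A]
    (hA : LocCoh.IsCohenMacaulayLocalRing AP) : LocCoh.IsCohenMacaulayLocalRing L₀ := by
  haveI := isNoetherianRing_deg0 (𝒜 := 𝒜) hP
  haveI : IsNoetherianRing AP := IsLocalization.isNoetherianRing P.primeCompl _ inferInstance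
  obtain ⟨n, b, hb, hn, hart⟩ := Nagata.Normalization.exists_sop L₀
  have hbrad : maximalIdeal L₀ ≤ (Ideal.span (Set.range b)).radical := by
    rw [Ideal.radical_eq_sInf]
    refine le_sInf fun q hq => ?_
    haveI := hq.2
    haveI : (q.map (Ideal.Quotient.mk (Ideal.span (Set.range b)))).IsPrime :=
      Ideal.map_isPrime_of_surjective Ideal.Quotient.mk_surjective (by rw [Ideal.mk_ker]; exact hq.1)
    haveI := hart
    haveI := IsArtinianRing.isMaximal_of_isPrime (q.map (Ideal.Quotient.mk (Ideal.span (Set.range b))))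
    have hmax := Ideal.comap_isMaximal_of_surjective (Ideal.Quotient.mk (Ideal.span (Set.range b)))
      Ideal.Quotient.mk_surjective (K := q.map (Ideal.Quotient.mk (Ideal.span (Set.range b))))
    rw [Ideal.comap_map_of_surjective _ Ideal.Quotient.mk_surjective, ← RingHom.ker_eq_comap_bot,
      Ideal.mk_ker, sup_eq_left.2 hq.1] at hmax
    exact (IsLocalRing.eq_maximalIdeal hmax).ge
  let xs : List AP := List.ofFn fun i => algebraMap L₀ AP (b i)
  have hspan : Ideal.ofList xs = (Ideal.span (Set.range b)).map (algebraMap L₀ AP) := by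
    rw [Ideal.map_span]
    refine congrArg Ideal.span (Set.ext fun y => ?_)
    simp only [xs, Set.mem_setOf_eq, List.mem_ofFn, Set.mem_image, Set.mem_range]
    exact ⟨fun ⟨i, hi⟩ => ⟨b i, ⟨i, rfl⟩, hi⟩, fun ⟨_, ⟨i, rfl⟩, hi⟩ => ⟨i, hi⟩⟩
  have hrad : maximalIdeal AP ≤ (Ideal.ofList xs).radical := by
    refine (maximalIdeal_le_radical_map hP hf hd hfP).trans (Ideal.radical_le_radical_iff.2 ?_)
    rw [hspan]
    exact (Ideal.map_mono hbrad).trans (Ideal.map_radical_le _)
  have hxs : ∀ y ∈ xs, y ∈ maximalIdeal AP := by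
    intro y hy
    obtain ⟨i, rfl⟩ := List.mem_ofFn.1 hy
    by_contra hu
    obtain ⟨e, a, s, ha, hs, hsP, hz⟩ := exists_frac (𝒜 := 𝒜) (b i)
    have haP : a ∉ P := fun h => hu (by
      rw [← Ideal.mul_unit_mem_iff_mem _ (IsLocalization.map_units AP (⟨s, hsP⟩ : P.primeCompl))]
      change (b i).val * algebraMap A AP s ∈ maximalIdeal AP
      rw [hz, IsLocalization.AtPrime.to_map_mem_maximal_iff AP P]
      exact h)
    refine (hb i) (IsUnit.of_mul_eq_one (frac s a hs ha haP) (val_injective _ ?_))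
    rw [val_mul, val_one]
    have hua := IsLocalization.map_units AP (⟨a, haP⟩ : P.primeCompl)
    refine hua.mul_right_cancel ?_
    rw [one_mul, mul_assoc, val_frac, hz]
  have hq0 : Module.supportDim AP (AP ⧸ (Ideal.ofList xs • (⊤ : Submodule AP AP))) = 0 := by
    haveI : Nontrivial (AP ⧸ (Ideal.ofList xs • (⊤ : Submodule AP AP))) := by
      refine Submodule.Quotient.nontrivial_iff.2 ?_
      rw [smul_eq_mul, Ideal.mul_top]
      exact ne_top_of_le_ne_top (maximalIdeal.isMaximal AP).ne_top (Ideal.span_le.2 hxs)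
    haveI : Subsingleton (Module.support AP (AP ⧸ (Ideal.ofList xs • (⊤ : Submodule AP AP)))) := by
      suffices ∀ T ∈ Module.support AP (AP ⧸ (Ideal.ofList xs • (⊤ : Submodule AP AP))),
          T.asIdeal = maximalIdeal AP from
        ⟨fun T T' => Subtype.ext (PrimeSpectrum.ext ((this _ T.2).trans (this _ T'.2).symm))⟩
      intro T hT
      rw [Module.support_quotient] at hT
      exact le_antisymm (IsLocalRing.le_maximalIdeal T.isPrime.ne_top)
        (hrad.trans ((Ideal.IsPrime.radical_le_iff T.isPrime).2 hT.2))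
    refine le_antisymm Order.krullDim_nonpos_of_subsingleton ?_
    haveI := (Module.nonempty_support_iff (R := AP)).2 (inferInstance : Nontrivial (AP ⧸ (Ideal.ofList xs • (⊤ : Submodule AP AP))))
    haveI := this.to_subtype
    exact Order.krullDim_nonneg
  have hdim : ringKrullDim AP = (n : WithBot ℕ∞) := by
    refine le_antisymm ?_ ?_
    · rw [← maximalIdeal_height_eq_ringKrullDim]
      refine WithBot.coe_le_coe.2 ?_
      have hmin : maximalIdeal AP ∈ (Ideal.ofList xs).minimalPrimes :=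
        ⟨⟨inferInstance, Ideal.span_le.2 hxs⟩, fun T hT _ =>
          hrad.trans ((Ideal.IsPrime.radical_le_iff hT.1).2 hT.2)⟩
      classical
      have h := Ideal.height_le_card_of_mem_minimalPrimes_span_finset (s := xs.toFinset)
        (p := maximalIdeal AP) (by
          have e : Ideal.span (xs.toFinset : Set AP) = Ideal.ofList xs :=
            congrArg Ideal.span (Set.ext fun y => by simp)
          rw [e]; exact hmin)
      refine h.trans ?_
      exact_mod_cast xs.toFinset_card_le.trans (by simp [xs])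
    · exact hn.ge.trans (ringKrullDim_deg0_le hP hf hd hfP)
  have hreg : RingTheory.Sequence.IsWeaklyRegular AP xs := by
    refine ((S5758.result AP AP hA.supportDim_eq_depth xs hxs).1).2 ?_
    rw [hq0, Module.supportDim_self_eq_ringKrullDim, hdim, zero_add]
    simp [xs]
  have hreg0 : RingTheory.Sequence.IsWeaklyRegular L₀ (List.ofFn b) := by
    refine (RingTheory.Sequence.isWeaklyRegular_iff _ _).2 fun i hi => ?_
    rw [List.length_ofFn] at hi
    have hi' : i < xs.length := by simpa [xs] using hi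
    have h := hreg.regular_mod_prev i hi'
    rw [isSMulRegular_quotient_iff_mem_of_smul_mem] at h ⊢
    intro a ha
    have hmap : Ideal.ofList (xs.take i) = (Ideal.ofList ((List.ofFn b).take i)).map (algebraMap L₀ AP) := by
      rw [Ideal.map_ofList, List.map_take, List.map_ofFn]
      rfl
    simp only [smul_eq_mul, Ideal.mul_top, List.getElem_ofFn, xs] at ha h ⊢
    refine mem_of_mem_map hP _ ?_
    rw [← hmap]
    refine h a.val ?_
    rw [hmap]
    have := Ideal.mem_map_of_mem (algebraMap L₀ AP) ha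
    rwa [map_mul] at this
  refine Depth.isCohenMacaulayLocalRing_iff.2 (le_antisymm ?_ Depth.depth_le_supportDim)
  rw [Module.supportDim_self_eq_ringKrullDim, hn]
  have h := Depth.le_idealDepth_of_isWeaklyRegular (I := maximalIdeal L₀) hreg0 fun r hr => by
    obtain ⟨i, rfl⟩ := List.mem_ofFn.1 hr
    exact hb i
  rw [List.length_ofFn] at h
  exact WithBot.coe_le_coe.2 h

theorem associatedPrime_minimal (hA : LocCoh.HasSk 1 A A) {Q : Ideal A} (hQ : Q ∈ associatedPrimes A A)
    [IsNoetherianRing A] : Q ∈ minimalPrimes A := by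
  have h := (RegLoc.SupportDim.hasSk_one_iff (R := A) (M := A)).1 hA Q hQ
  rwa [(Module.annihilator_eq_bot).2 inferInstance] at h

include hP hf hd hfP in
theorem hasSk_one_deg0 [IsNoetherianRing A] (hA : LocCoh.HasSk 1 A A) : LocCoh.HasSk 1 L₀ L₀ := by
  haveI := isNoetherianRing_deg0 (𝒜 := 𝒜) hP
  rw [RegLoc.SupportDim.hasSk_one_iff, (Module.annihilator_eq_bot).2 inferInstance]
  intro q hq
  haveI := Depth.isPrime_of_mem_associatedPrimes hq
  obtain ⟨-, z, hz⟩ := isAssociatedPrime_iff.1 hq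
  refine ⟨⟨inferInstance, bot_le⟩, fun q0 hq0 hle => ?_⟩
  haveI := hq0.1
  obtain ⟨Q, hQ⟩ := exists_over hP q
  obtain ⟨Q0, hQ0⟩ := exists_over hP q0
  haveI : (liftPrime (𝒜 := 𝒜) Q.asIdeal).IsPrime := Ideal.IsPrime.homogeneousCore inferInstance
  haveI : (liftPrime (𝒜 := 𝒜) Q0.asIdeal).IsPrime := Ideal.IsPrime.homogeneousCore inferInstance
  obtain ⟨e, a, s, ha, -, hsP, hfr⟩ := exists_frac (𝒜 := 𝒜) z
  have hane : algebraMap A AP a ≠ 0 := by
    intro h0
    rw [h0] at hfr
    have hz0 : z = 0 := val_injective _ (by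
      rw [val_zero]
      exact (IsLocalization.map_units AP (⟨s, hsP⟩ : P.primeCompl)).mul_left_eq_zero.1 hfr)
    refine ‹q.IsPrime›.ne_top ((Ideal.eq_top_iff_one q).2 ?_)
    rw [hz, hz0]
    simp [Submodule.mem_colon_singleton]
  -- an associated prime of `A_P` containing the lift of `q`
  haveI : IsNoetherianRing AP := IsLocalization.isNoetherianRing P.primeCompl _ inferInstance
  obtain ⟨T, hT, hTle⟩ := exists_le_isAssociatedPrime_of_isNoetherianRing AP (algebraMap A AP a) hane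
  haveI := hT.isPrime
  have hsub : liftPrime (𝒜 := 𝒜) Q.asIdeal ≤ T.comap (algebraMap A AP) := by
    intro x hx
    refine mem_of_component (𝒜 := 𝒜) fun j => ?_
    have hxj := (Ideal.homogeneousCore 𝒜 (Q.asIdeal.comap (algebraMap A AP))).isHomogeneous j hx
    obtain ⟨g, hg⟩ := exists_hom hf hfP (SetLike.coe_mem (decompose 𝒜 x j))
    rw [mem_iff_hom_mem hd hg hfP T]
    have hgq : g ∈ q := by
      rw [← hQ]
      exact (mem_iff_hom_mem hd hg hfP Q.asIdeal).1 (Ideal.toIdeal_homogeneousCore_le 𝒜 _ hxj)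
    rw [hz, Submodule.mem_colon_singleton, Submodule.mem_bot, smul_eq_mul] at hgq
    refine hTle ?_
    rw [Submodule.mem_colon_singleton, Submodule.mem_bot, smul_eq_mul, ← hfr]
    change g.val * (z.val * algebraMap A AP s) = 0
    rw [← mul_assoc, ← val_mul, hgq, val_zero, zero_mul]
  have hTA : T.comap (algebraMap A AP) ∈ associatedPrimes A A :=
    (Module.associatedPrimes.preimage_comap_associatedPrimes_eq_associatedPrimes_of_isLocalizedModule
      P.primeCompl AP (Algebra.linearMap A AP)).ge (by exact hT)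
  have hmin := associatedPrime_minimal hA hTA
  have hC0 : liftPrime (𝒜 := 𝒜) Q0.asIdeal ≤ liftPrime (𝒜 := 𝒜) Q.asIdeal :=
    liftPrime_mono hf hd hfP _ _ (by rw [hQ, hQ0]; exact hle)
  have hCle : liftPrime (𝒜 := 𝒜) Q.asIdeal ≤ liftPrime (𝒜 := 𝒜) Q0.asIdeal :=
    hsub.trans (hmin.2 ⟨inferInstance, bot_le⟩ (hC0.trans hsub))
  intro w hw
  obtain ⟨e', a', s', ha', -, hsP', hw'⟩ := exists_frac (𝒜 := 𝒜) w
  rw [← hQ0, mem_comap_iff_mem_liftPrime Q0.asIdeal w ha' hsP' hw']
  rw [← hQ, mem_comap_iff_mem_liftPrime Q.asIdeal w ha' hsP' hw'] at hw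
  exact hCle hw

end Relevant

open AlgebraicGeometry in
theorem exists_relevant (x : Proj 𝒜) :
    ∃ (d : ℕ) (f : A), 0 < d ∧ f ∈ 𝒜 d ∧ f ∉ x.asHomogeneousIdeal.toIdeal := by
  classical
  by_contra h
  push Not at h
  refine x.not_irrelevant_le fun y hy => ?_
  refine mem_of_component (𝒜 := 𝒜) fun j => ?_
  rcases Nat.eq_zero_or_pos j with rfl | hj
  · have hy0 : (decompose 𝒜 y 0 : A) = 0 := by
      simpa [GradedRing.proj_apply] using (HomogeneousIdeal.mem_irrelevant_iff 𝒜 y).1 hy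
    rw [hy0]; exact zero_mem _
  · exact h j _ hj (SetLike.coe_mem _)

end Groth.Agent.FiltRees
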