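import Groth.Agent.Depth.CM
import Groth.Agent.FlatMor.CMFlat
import Groth.Agent.Gor.Ring
import Groth.Agent.Gor.LCI

/-!
# Localisations of a quotient by a nonzerodivisor
-/

set_option autoImplicit false
set_option linter.style.haveILetI false
universe u

open IsLocalRing
open scoped Pointwise

noncomputable section

namespace Groth.Agent.FiltRees

theorem cm_quotient_iff {R : Type u} [CommRing R] [IsLocalRing R] [IsNoetherianRing R] {x : R}
    (hx : x ∈ maximalIdeal R) (hreg : IsSMulRegular R x) :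
    LocCoh.IsCohenMacaulayLocalRing R ↔ LocCoh.IsCohenMacaulayLocalRing (R ⧸ Ideal.span {x}) := by
  haveI := Gor.Basic.isLocalRing_quotient R hx
  rw [Depth.isCohenMacaulayLocalRing_iff, Depth.isCohenMacaulayLocalRing_iff,
    ← Depth.isCohenMacaulayModule_quotSMulTop_iff hx hreg,
    Depth.isCohenMacaulayModule_iff_of_surjective (R := R) (S := R ⧸ Ideal.span {x})
      Ideal.Quotient.mk_surjective]
  exact Depth.isCohenMacaulayModule_congr (Submodule.quotEquivOfEq (x • (⊤ : Submodule R R))
    (Ideal.span {x}) (by rw [← Submodule.ideal_span_singleton_smul]; exact Ideal.mul_top _))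

/-- Cohen–Macaulay local rings are transported along ring isomorphisms. -/
theorem cm_atPrime_ringEquiv {S S' : Type u} [CommRing S] [CommRing S'] (e : S ≃+* S') (q : Ideal S')
    [q.IsPrime] (h : LocCoh.IsCohenMacaulayLocalRing (Localization.AtPrime (q.comap e.toRingHom))) :
    LocCoh.IsCohenMacaulayLocalRing (Localization.AtPrime q) :=
  FlatMor.CMFlat.isCM_of_ringEquiv
    (IsLocalization.ringEquivOfRingEquiv (M := (q.comap e.toRingHom).primeCompl) (T := q.primeCompl)
      (Localization.AtPrime (q.comap e.toRingHom)) (Localization.AtPrime q) e (by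
        ext x
        exact ⟨fun ⟨y, hy, hyx⟩ => hyx ▸ hy, fun hx => ⟨e.symm x, by
          show e (e.symm x) ∉ q
          rwa [e.apply_symm_apply], e.apply_symm_apply x⟩⟩)) h

variable {R : Type u} [CommRing R] [IsNoetherianRing R] {x : R}

theorem loc_quotient_facts (hreg : IsSMulRegular R x) (q : Ideal (R ⧸ Ideal.span {x})) [q.IsPrime] :
    let q' := q.comap (Ideal.Quotient.mk (Ideal.span {x}))
    algebraMap R (Localization.AtPrime q') x ∈ maximalIdeal (Localization.AtPrime q') ∧
      IsSMulRegular (Localization.AtPrime q') (algebraMap R (Localization.AtPrime q') x) ∧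
      Nonempty ((Localization.AtPrime q' ⧸ Ideal.span {algebraMap R (Localization.AtPrime q') x}) ≃+*
        Localization.AtPrime q) := by
  intro q'
  refine ⟨?_, IsSMulRegular.of_isLocalizedModule _ q'.primeCompl (Algebra.linearMap R _) hreg, ?_⟩
  · rw [IsLocalization.AtPrime.to_map_mem_maximal_iff _ q' x, Ideal.mem_comap,
      Ideal.Quotient.eq_zero_iff_mem.mpr (Ideal.mem_span_singleton_self x)]
    exact q.zero_mem
  haveI := Gor.LCI.isLocalization_quotient_atPrime (Ideal.span {x}) q (Localization.AtPrime q')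
  exact ⟨(Ideal.quotEquivOfEq (by rw [Ideal.map_span, Set.image_singleton])).trans
    (IsLocalization.algEquiv q.primeCompl (Localization.AtPrime q' ⧸ (Ideal.span {x}).map
      (algebraMap R (Localization.AtPrime q'))) (Localization.AtPrime q)).toRingEquiv⟩

theorem cm_atPrime_quotient_iff (hreg : IsSMulRegular R x) (q : Ideal (R ⧸ Ideal.span {x})) [q.IsPrime] :
    LocCoh.IsCohenMacaulayLocalRing (Localization.AtPrime (q.comap (Ideal.Quotient.mk (Ideal.span {x})))) ↔
      LocCoh.IsCohenMacaulayLocalRing (Localization.AtPrime q) := by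
  obtain ⟨h1, h2, ⟨e⟩⟩ := loc_quotient_facts hreg q
  rw [cm_quotient_iff h1 h2]
  exact ⟨FlatMor.CMFlat.isCM_of_ringEquiv e, FlatMor.CMFlat.isCM_of_ringEquiv e.symm⟩

theorem gor_atPrime_quotient_iff (hreg : IsSMulRegular R x) (q : Ideal (R ⧸ Ideal.span {x})) [q.IsPrime] :
    LocCoh.IsGorensteinLocalRing (Localization.AtPrime (q.comap (Ideal.Quotient.mk (Ideal.span {x})))) ↔
      LocCoh.IsGorensteinLocalRing (Localization.AtPrime q) := by
  obtain ⟨h1, h2, ⟨e⟩⟩ := loc_quotient_facts hreg q
  rw [Gor.Basic.gorenstein_quotient_iff h1 h2]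
  exact Gor.FlatLocal.gorenstein_iff_of_ringEquiv e

omit [IsNoetherianRing R] in
theorem iff_of_eq_prime {P Q : Ideal R} [P.IsPrime] [Q.IsPrime] (h : P = Q)
    (φ : ∀ (J : Ideal R) [J.IsPrime], Prop) : φ P ↔ φ Q := by subst h; rfl

theorem comap_map_mk {P : Ideal R} (hxP : x ∈ P) :
    (P.map (Ideal.Quotient.mk (Ideal.span {x}))).comap (Ideal.Quotient.mk (Ideal.span {x})) = P := by
  rw [Ideal.comap_map_of_surjective _ Ideal.Quotient.mk_surjective, ← RingHom.ker_eq_comap_bot,
    Ideal.mk_ker, sup_eq_left.2 ((Ideal.span_singleton_le_iff_mem _).2 hxP)]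

theorem isPrime_map_mk {P : Ideal R} [P.IsPrime] (hxP : x ∈ P) :
    (P.map (Ideal.Quotient.mk (Ideal.span {x}))).IsPrime :=
  Ideal.map_isPrime_of_surjective Ideal.Quotient.mk_surjective
    (by rwa [Ideal.mk_ker, Ideal.span_singleton_le_iff_mem])

theorem cm_atPrime_mem_iff (hreg : IsSMulRegular R x) (P : Ideal R) [P.IsPrime] (hxP : x ∈ P)
    [(P.map (Ideal.Quotient.mk (Ideal.span {x}))).IsPrime] :
    LocCoh.IsCohenMacaulayLocalRing (Localization.AtPrime P) ↔
      LocCoh.IsCohenMacaulayLocalRing (Localization.AtPrime (P.map (Ideal.Quotient.mk (Ideal.span {x})))) := by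
  rw [← cm_atPrime_quotient_iff hreg]
  exact iff_of_eq_prime (comap_map_mk hxP).symm
    (fun J _ => LocCoh.IsCohenMacaulayLocalRing (Localization.AtPrime J))

theorem gor_atPrime_mem_iff (hreg : IsSMulRegular R x) (P : Ideal R) [P.IsPrime] (hxP : x ∈ P)
    [(P.map (Ideal.Quotient.mk (Ideal.span {x}))).IsPrime] :
    LocCoh.IsGorensteinLocalRing (Localization.AtPrime P) ↔
      LocCoh.IsGorensteinLocalRing (Localization.AtPrime (P.map (Ideal.Quotient.mk (Ideal.span {x})))) := by
  rw [← gor_atPrime_quotient_iff hreg]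
  exact iff_of_eq_prime (comap_map_mk hxP).symm
    (fun J _ => LocCoh.IsGorensteinLocalRing (Localization.AtPrime J))

/-- The same for any surjection with kernel `(x)`. -/
theorem cm_comap_surjective_iff (hreg : IsSMulRegular R x) {G : Type u} [CommRing G] (φ : R →+* G)
    (hφ : Function.Surjective φ) (hker : RingHom.ker φ = Ideal.span {x}) (p : Ideal G) [p.IsPrime] :
    LocCoh.IsCohenMacaulayLocalRing (Localization.AtPrime (p.comap φ)) ↔
      LocCoh.IsCohenMacaulayLocalRing (Localization.AtPrime p) := by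
  let e : (R ⧸ Ideal.span {x}) ≃+* G :=
    (Ideal.quotEquivOfEq hker.symm).trans (RingHom.quotientKerEquivOfSurjective hφ)
  let p' : Ideal (R ⧸ Ideal.span {x}) := p.comap e.toRingHom
  haveI : p'.IsPrime := Ideal.IsPrime.comap e.toRingHom
  have h1 := cm_atPrime_quotient_iff hreg p'
  have h2 := iff_of_eq_prime (P := p'.comap (Ideal.Quotient.mk (Ideal.span {x}))) (Q := p.comap φ) rfl
    (fun J _ => LocCoh.IsCohenMacaulayLocalRing (Localization.AtPrime J))
  refine (h2.symm.trans h1).trans ⟨cm_atPrime_ringEquiv e p, fun h => ?_⟩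
  refine cm_atPrime_ringEquiv e.symm p' ?_
  exact (iff_of_eq_prime (P := p'.comap e.symm.toRingHom) (Q := p)
    (Ideal.ext fun y => by
      change e (e.symm y) ∈ p ↔ y ∈ p
      rw [e.apply_symm_apply])
    (fun J _ => LocCoh.IsCohenMacaulayLocalRing (Localization.AtPrime J))).2 h

end Groth.Agent.FiltRees
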