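import Groth.Agent.FiltRees.Laurent
import Mathlib.RingTheory.Ideal.UFD
import Mathlib.RingTheory.Polynomial.UniqueFactorization

/-!
# Factoriality of the extended Rees algebra
-/

set_option autoImplicit false
set_option linter.style.haveILetI false
set_option linter.unusedSectionVars false
universe u

open LaurentPolynomial

noncomputable section

namespace Groth.Agent.FiltRees

variable {A : Type u} [CommRing A] [IsDomain A] [IsNoetherianRing A]

theorem isDomain_laurent : IsDomain A[T;T⁻¹] :=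
  IsLocalization.Away.isDomain A[T;T⁻¹] (Polynomial.X_ne_zero (R := A))

theorem ufm_laurent_iff : UniqueFactorizationMonoid A[T;T⁻¹] ↔ UniqueFactorizationMonoid A := by
  haveI := isDomain_laurent (A := A)
  rw [← UniqueFactorizationMonoid.iff_of_isLocalizationAway_of_prime (Polynomial.prime_X (R := A))
    A[T;T⁻¹]]
  refine ⟨fun h => ?_, fun h => inferInstance⟩
  rw [UniqueFactorizationMonoid.iff_exists_prime_mem_of_isPrime]
  intro I hI hIp
  haveI : (I.map (Polynomial.C : A →+* Polynomial A)).IsPrime :=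
    Ideal.isPrime_map_C_of_isPrime (P := I)
  obtain ⟨c, hc, hc0⟩ := Submodule.exists_mem_ne_zero_of_ne_bot hI
  haveI : UniqueFactorizationMonoid (Polynomial A) := h
  obtain ⟨f, hf1, hf2⟩ := UniqueFactorizationMonoid.exists_prime_factors (Polynomial.C c)
    (Polynomial.C_ne_zero.2 hc0)
  have hprod : f.prod ∈ I.map (Polynomial.C : A →+* Polynomial A) :=
    (Ideal.mem_iff_of_associated hf2).2 (Ideal.mem_map_of_mem _ hc)
  obtain ⟨q, hq1, hq2⟩ := (Ideal.IsPrime.multiset_prod_mem_iff_exists_mem ‹_› f).1 hprod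
  have hq0 : q.natDegree = 0 := by
    have := Polynomial.natDegree_le_of_dvd ((Multiset.dvd_prod hq1).trans hf2.dvd)
      (Polynomial.C_ne_zero.2 hc0)
    simpa using this
  exact ⟨q.coeff 0, Ideal.mem_map_C_iff.1 hq2 0, Polynomial.prime_C_iff.1
    (by rw [← Polynomial.eq_C_of_natDegree_eq_zero hq0]; exact hf1 q hq1)⟩

theorem exists_monomial_of_isUnit {x : A[T;T⁻¹]} (hx : IsUnit x) :
    ∃ (i : ℤ) (c : A), IsUnit c ∧ x = LaurentPolynomial.C c * T i := by
  haveI := isDomain_laurent (A := A)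
  obtain ⟨y, hy⟩ := hx.exists_right_inv
  obtain ⟨n, x', hx'⟩ := exists_T_pow x
  obtain ⟨m, y', hy'⟩ := exists_T_pow y
  have h1 : x' * y' = Polynomial.X ^ (n + m) := Polynomial.toLaurent_injective (by
    rw [map_mul, hx', hy', Polynomial.toLaurent_X_pow, mul_mul_mul_comm, hy, one_mul, ← T_add]
    congr 1)
  obtain ⟨k, -, hk⟩ := (dvd_prime_pow Polynomial.prime_X (n + m)).1 ⟨y', h1.symm⟩
  obtain ⟨v, hv⟩ := hk.symm
  obtain ⟨c, hc, hvc⟩ := Polynomial.isUnit_iff.1 v.isUnit
  refine ⟨(k : ℤ) - n, c, hc, ?_⟩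
  rw [← hvc] at hv
  rw [← hv, map_mul, Polynomial.toLaurent_X_pow, Polynomial.toLaurent_C] at hx'
  calc x = x * T (n : ℤ) * T (-(n : ℤ)) := by rw [mul_assoc, ← T_add, add_neg_cancel, T_zero, mul_one]
    _ = _ := by rw [← hx', mul_comm (T (k : ℤ)), mul_assoc, ← T_add, sub_eq_add_neg]

variable [IsLocalRing A] (𝓕 : FiltBl.IdealFiltration A) (hsep : ⨅ n, 𝓕.F n = ⊥)

include hsep in
theorem irreducible_u : Irreducible 𝓕.u := by
  refine ⟨fun h => (isMaximal_vertex 𝓕 hsep).ne_top (Ideal.eq_top_of_isUnit_mem _ (u_mem_vertex 𝓕 hsep) h),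
    fun a b hab => ?_⟩
  have hab' : (a : A[T;T⁻¹]) * (b : A[T;T⁻¹]) = T (-1) := by rw [← MulMemClass.coe_mul, ← hab]; rfl
  have hua : IsUnit (a : A[T;T⁻¹]) := isUnit_of_mul_isUnit_left (hab' ▸ isUnit_T (-1))
  have hub : IsUnit (b : A[T;T⁻¹]) := isUnit_of_mul_isUnit_right (hab' ▸ isUnit_T (-1))
  obtain ⟨i, c, hc, hac⟩ := exists_monomial_of_isUnit hua
  obtain ⟨j, e, he, hbe⟩ := exists_monomial_of_isUnit hub
  have hle : ∀ (x : 𝓕.extRees) (i : ℤ) (c : A), IsUnit c → (x : A[T;T⁻¹]) = LaurentPolynomial.C c * T i →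
      i ≤ 0 := by
    intro x i c hc hx
    by_contra hi
    have h := coeff_mem 𝓕 x i
    rw [hx, coeff_C_mul_T, if_pos rfl] at h
    exact (IsLocalRing.maximalIdeal.isMaximal A).ne_top
      (Ideal.eq_top_of_isUnit_mem _ (F_le 𝓕 hsep (by omega) h) hc)
  have hunit : ∀ (x : 𝓕.extRees) (c : A), IsUnit c → (x : A[T;T⁻¹]) = LaurentPolynomial.C c * T 0 →
      IsUnit x := by
    intro x c hc hx
    obtain ⟨v, hv⟩ := hc.exists_left_inv
    refine IsUnit.of_mul_eq_one (mon 𝓕 0 v (by simp [𝓕.zero_eq])) (Subtype.ext ?_)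
    rw [MulMemClass.coe_mul, hx, coe_mon, T_zero, mul_one, mul_one, ← map_mul, mul_comm, hv, map_one,
      OneMemClass.coe_one]
  have hij : i + j = -1 := by
    by_contra hne
    rw [hac, hbe, mul_mul_mul_comm, ← map_mul, ← T_add] at hab'
    have h := congrArg (fun f : A[T;T⁻¹] => f.coeff (i + j)) hab'
    simp only [coeff_C_mul_T, if_pos, T_apply, if_neg (Ne.symm hne)] at h
    exact ((hc.mul he).ne_zero) h
  have := hle a i c hc hac
  have := hle b j e he hbe
  rcases (show i = 0 ∨ j = 0 by omega) with rfl | rfl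
  · exact Or.inl (hunit a c hc hac)
  · exact Or.inr (hunit b e he hbe)

end Groth.Agent.FiltRees
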